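import Groth.Agent.SGA6Ext.Exists
import Groth.Agent.LocFree.Rank
import Groth.Agent.LocFree.SemiLocal
import Groth.Agent.PBundle.FrameTools
import Groth.Agent.SymAlg.InvDual
import Groth.Agent.ZeroSch.Basic
import Groth.Prelude.Def_KRR

/-!
The λ-ring with positive structure of vector bundles on a connected scheme.
-/

set_option autoImplicit false
set_option backward.isDefEq.respectTransparency false
set_option backward.isDefEq.respectTransparency.types false
set_option linter.style.haveILetI false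
set_option linter.unusedSectionVars false
set_option maxHeartbeats 1000000

universe u

open CategoryTheory CategoryTheory.Limits AlgebraicGeometry TopologicalSpace Opposite
open Groth.Agent.QC (res resO res_res res_self res_smul app_res)
open TMul (tm)
open Groth.Agent.LocFree (rk)

noncomputable section

namespace Groth.Agent.SGA6Ext

variable {X : Scheme.{u}}

theorem rk_of_frame {M : X.Modules} {U : X.Opens} {n : ℕ} {e : Fin n → Γ(M, U)} (he : TMul.IsFrame e) {x : X}
    (hx : x ∈ U) : rk M x = n :=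
  (LocFree.rk_of_basis (Module.Basis.ofEquivFun (ResDesc.stalkEquiv he hx).symm)).trans (Fintype.card_fin n)

theorem finLocFree_of_rank {M : X.Modules} {n : ℕ} (h : FlatMod.IsFinLocFreeOfRank n M) : FlatMod.IsFinLocFree M :=
  fun x => let ⟨U, hx, e⟩ := h x; ⟨U, n, hx, e⟩

theorem rk_of_rank {M : X.Modules} {n : ℕ} (h : FlatMod.IsFinLocFreeOfRank n M) (x : X) : rk M x = n := by
  obtain ⟨W, hx, ⟨e⟩⟩ := h x
  obtain ⟨b⟩ := LocFree.exists_basis_stalk e (LocFree.isQCoh_of_isFinLocFree (finLocFree_of_rank h)) hx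
  exact (LocFree.rk_of_basis b).trans (by rw [Fintype.card_ulift, Fintype.card_fin])

variable [ConnectedSpace ↥X]

variable (X) in
/-- A chosen point. -/
def basePt : X := Classical.arbitrary _

/-- The rank. -/
def rank (M : X.Modules) : ℕ := rk M (basePt X)

theorem isRank {M : X.Modules} (h : FlatMod.IsFinLocFree M) : FlatMod.IsFinLocFreeOfRank (rank M) M := by
  refine W7Strat.isFinLocFreeOfRank_of_frames fun x => ?_
  obtain ⟨U, n, e, hx, he⟩ := TMul.exists_isFrame h x
  obtain rfl : n = rank M := (rk_of_frame he hx).symm.trans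
    ((LocFree.isLocallyConstant_rk h).apply_eq_of_preconnectedSpace x (basePt X))
  exact ⟨U, e, hx, he⟩

theorem rank_of {M : X.Modules} {n : ℕ} (h : FlatMod.IsFinLocFreeOfRank n M) : rank M = n :=
  rk_of_rank h (basePt X)

theorem rank_middle {S : ShortComplex X.Modules} (hS : S.ShortExact) (h₁ : FlatMod.IsFinLocFree S.X₁)
    (h₃ : FlatMod.IsFinLocFree S.X₃) : rank S.X₂ = rank S.X₁ + rank S.X₃ := by
  have h₂ := VBTwo.isFinLocFree_middle hS h₁ h₃
  obtain ⟨U₁, a, e, hx₁, he⟩ := TMul.exists_isFrame h₁ (basePt X)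
  obtain ⟨U₃, c, g, hx₃, hg⟩ := TMul.exists_isFrame h₃ (basePt X)
  obtain ⟨V, hV, hxV, hle⟩ := exists_isAffineOpen_mem_and_subset (X := X) (x := basePt X) (U := U₁ ⊓ U₃) ⟨hx₁, hx₃⟩
  have hle₁ : V ≤ U₁ := (show V ≤ U₁ ⊓ U₃ from hle).trans inf_le_left
  have hle₃ : V ≤ U₃ := (show V ≤ U₁ ⊓ U₃ from hle).trans inf_le_right
  obtain ⟨s, hs⟩ := exists_section hS h₂ h₃ (V := V) ⟨hV, ⟨U₁, a, e, he, hle₁⟩, ⟨U₃, c, g, hg, hle₃⟩⟩
  have hbij : Function.Bijective ((secMap S.f V).coprod s) := by
    have hgf : ∀ m, secMap S.g V (secMap S.f V m) = 0 := fun m => LinearMap.congr_fun (comp_zero hS V) m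
    have hgs : ∀ y, secMap S.g V (s y) = y := fun y => LinearMap.congr_fun hs y
    refine ⟨fun x y hxy => ?_, fun m => ?_⟩
    · simp only [LinearMap.coprod_apply] at hxy
      have h2 : x.2 = y.2 := by
        have := congrArg (secMap S.g V) hxy
        rwa [map_add, map_add, hgf, hgf, hgs, hgs, zero_add, zero_add] at this
      rw [h2] at hxy
      exact Prod.ext (injective_f hS V (add_right_cancel hxy)) h2
    · obtain ⟨t, ht⟩ := ker_le hS V (show m - s (secMap S.g V m) ∈ LinearMap.ker (secMap S.g V) by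
        rw [LinearMap.mem_ker, map_sub, hgs, sub_self])
      exact ⟨(t, secMap S.g V m), by rw [LinearMap.coprod_apply, ht, sub_add_cancel]⟩
  let B : Module.Basis (Fin (a + c)) Γ(X, V) (Sec S.X₂ V) :=
    (((Module.Basis.ofEquivFun (he.equiv hle₁).symm : Module.Basis (Fin a) Γ(X, V) (Sec S.X₁ V)).prod
      (Module.Basis.ofEquivFun (hg.equiv hle₃).symm : Module.Basis (Fin c) Γ(X, V) (Sec S.X₃ V))).map
      (LinearEquiv.ofBijective _ hbij)).reindex finSumFinEquiv
  have hB : TMul.IsFrame (N := S.X₂) (U := V) fun i => (B i : Γ(S.X₂, V)) :=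
    PBundle.isFrame_of_bijective (LocFree.isQCoh_of_isFinLocFree h₂) hV (by
      rw [show (fun z => ∑ i, z i • (B i : Γ(S.X₂, V))) = B.equivFun.symm from funext fun z =>
        (Module.Basis.equivFun_symm_apply B z).symm]
      exact B.equivFun.symm.bijective)
  rw [rank, rank, rank, rk_of_frame hB hxV, rk_of_frame he hx₁, rk_of_frame hg hx₃]

omit [ConnectedSpace ↥X] in
/-- Frames of tensor products. -/
theorem exists_frame_tm {A B : X.Modules} {U : X.Opens} {a b : ℕ} {e : Fin a → Γ(A, U)} {f : Fin b → Γ(B, U)}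
    (he : TMul.IsFrame e) (hf : TMul.IsFrame f) :
    ∃ g : Fin (a * b) → Γ(CohB1.tensorMod A B, U), TMul.IsFrame g := by
  refine ⟨fun p => tm (e (finProdFinEquiv.symm p).1) (f (finProdFinEquiv.symm p).2),
    W7Strat.isFrame_of_bijective fun V hV => ?_⟩
  have : (fun c : Fin (a * b) → Γ(X, V) => ∑ p, c p • res (CohB1.tensorMod A B) hV
      (tm (e (finProdFinEquiv.symm p).1) (f (finProdFinEquiv.symm p).2))) =
      (fun m : Fin a → Γ(B, V) => ∑ i, tm (res A hV (e i)) (m i)) ∘
        (Pi.map fun _ => (fun d : Fin b → Γ(X, V) => ∑ j, d j • res B hV (f j))) ∘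
        fun c i j => c (finProdFinEquiv (i, j)) := by
    funext c
    rw [← finProdFinEquiv.sum_comp, Fintype.sum_prod_type]
    refine Finset.sum_congr rfl fun i _ => ?_
    simp only [Equiv.symm_apply_apply, Function.comp_apply, Pi.map_apply, TMul.res_tm]
    rw [← TMul.tt_tmul (res A hV (e i)) (∑ j, c (finProdFinEquiv (i, j)) • res B hV (f j)),
      TensorProduct.tmul_sum, map_sum]
    refine Finset.sum_congr rfl fun j _ => ?_
    rw [TMul.tt_tmul, TMul.tm_smul]
  rw [this]
  refine (he.tm_bijective V hV).comp ((Function.Bijective.piMap fun _ => ⟨hf.comb_injective hV, hf.comb_surjective hV⟩).comp ?_)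
  refine ⟨fun c d h => funext fun p => ?_, fun c => ⟨fun p => c (finProdFinEquiv.symm p).1 (finProdFinEquiv.symm p).2,
    funext fun i => funext fun j => by simp only [Equiv.symm_apply_apply]⟩⟩
  obtain ⟨⟨i, j⟩, rfl⟩ := finProdFinEquiv.surjective p
  exact congrFun (congrFun h i) j

theorem rank_tm {A B : X.Modules} (hA : FlatMod.IsFinLocFree A) (hB : FlatMod.IsFinLocFree B) :
    rank (CohB1.tensorMod A B) = rank A * rank B := by
  obtain ⟨U, a, e, hx, he⟩ := TMul.exists_isFrame hA (basePt X)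
  obtain ⟨V, b, f, hy, hf⟩ := TMul.exists_isFrame hB (basePt X)
  obtain ⟨g, hg⟩ := exists_frame_tm (W7Strat.isFrame_res he (inf_le_left : U ⊓ V ≤ U))
    (W7Strat.isFrame_res hf (inf_le_right : U ⊓ V ≤ V))
  rw [rank, rank, rank, rk_of_frame he hx, rk_of_frame hf hy, rk_of_frame hg ⟨hx, hy⟩]

omit [ConnectedSpace ↥X] in
theorem isRank_unit : FlatMod.IsFinLocFreeOfRank 1 (Coh.structureModule X) := by
  refine W7Strat.isFinLocFreeOfRank_of_frames fun x => ⟨⊤, fun _ => (1 : Γ(X, ⊤)), trivial, ?_⟩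
  refine W7Strat.isFrame_of_bijective fun V hV => ?_
  have : (fun c : Fin 1 → Γ(X, V) => ∑ i, c i • res (Coh.structureModule X) hV (1 : Γ(X, (⊤ : X.Opens)))) =
      fun c => c 0 := by
    funext c
    rw [Fin.sum_univ_one]
    change c 0 * resO X hV 1 = c 0
    rw [map_one, mul_one]
  rw [this]
  exact (Equiv.funUnique (Fin 1) Γ(X, V)).bijective

omit [ConnectedSpace ↥X] in
theorem isZero_of_rank_zero {M : X.Modules} (h : FlatMod.IsFinLocFreeOfRank 0 M) : IsZero M := by
  rw [IsZero.iff_id_eq_zero]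
  refine Scheme.Modules.hom_ext _ _ fun U => ?_
  ext s
  refine Groth.Agent.QC.section_eq_of_locally fun x hx => ?_
  obtain ⟨W, n, e, hxW, he⟩ := TMul.exists_isFrame (finLocFree_of_rank h) x
  have hn : n = 0 := (rk_of_frame he hxW).symm.trans (rk_of_rank h x)
  subst hn
  refine ⟨W ⊓ U, inf_le_right, ⟨hxW, hx⟩, ?_⟩
  obtain ⟨c, hc⟩ := he.comb_surjective (inf_le_left : W ⊓ U ≤ W) (res M inf_le_right s)
  rw [Finset.univ_eq_empty, Finset.sum_empty] at hc
  change res M inf_le_right s = res M inf_le_right (0 : Γ(M, U))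
  rw [map_zero, ← hc]

theorem rank_extSh {E : X.Modules} (hE : FlatMod.IsFinLocFree E) (k : ℕ) :
    rank (extSh E k) = (rank E).choose k := by
  obtain ⟨U, n, e, hx, he⟩ := TMul.exists_isFrame hE (basePt X)
  obtain ⟨f, hf⟩ := exists_frame_extSh E k he
  rw [rank, rank, rk_of_frame hf hx, rk_of_frame he hx]

variable (X) in
omit [ConnectedSpace ↥X] in
theorem finLocFree_unit : FlatMod.IsFinLocFree (Coh.structureModule X) := finLocFree_of_rank isRank_unit

variable (X) in
/-- The ring of vector bundles. -/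
@[implicit_reducible]
def kvbRing : CommRing (SGA6.Kvb X) :=
  { (inferInstance : AddCommGroup (SGA6.Kvb X)) with
    mul := fun x y => mulK X x y
    one := oneK X
    left_distrib := fun x y z => map_add (mulK X x) y z
    right_distrib := fun x y z => congrArg (fun f : SGA6.Kvb X →+ SGA6.Kvb X => f z) (map_add (mulK X) x y)
    zero_mul := fun x => congrArg (fun f : SGA6.Kvb X →+ SGA6.Kvb X => f x) (map_zero (mulK X))
    mul_zero := fun x => map_zero (mulK X x)
    mul_assoc := mulK_assoc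
    one_mul := mulK_one (finLocFree_unit X)
    mul_one := fun x => (mulK_comm x _).trans (mulK_one (finLocFree_unit X) x)
    mul_comm := mulK_comm }

variable (X) in
/-- The λ-operations. -/
def lamK : ℕ → SGA6.Kvb X → SGA6.Kvb X :=
  (exists_lambda (X := X) (fun i E hE => exists_extPow i E hE)).choose

variable (X) in
omit [ConnectedSpace ↥X] in
theorem lamK_spec : SGA6.IsLambdaStructureVb X (mulK X) (lamK X) :=
  (exists_lambda (X := X) (fun i E hE => exists_extPow i E hE)).choose_spec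

variable (X) in
/-- The λ-ring of vector bundles. -/
@[implicit_reducible]
def kvbLam : @LambdaRing.LambdaOps (SGA6.Kvb X) (kvbRing X) :=
  letI := kvbRing X
  { lam := lamK X
    lam_zero := (lamK_spec X).2.2.2.2.2.1
    lam_one := (lamK_spec X).2.2.2.2.2.2.1
    lam_add := (lamK_spec X).2.2.2.2.2.2.2 }

omit [ConnectedSpace ↥X] in
theorem lamK_cls (i : ℕ) {E : X.Modules} (hE : FlatMod.IsFinLocFree E) :
    lamK X i (cls E) = cls (extSh E i) :=
  (lamK_spec X).2.2.2.2.1 i E (extSh E i) hE (isExtPow_extSh E i hE)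

variable (X) in
/-- The rank on classes. -/
def rankHom : SGA6.Kvb X →+ ℤ :=
  liftK (fun E => (rank E.1 : ℤ)) fun S h₁ h₂ h₃ hS => by
    rw [rank_middle hS h₁ h₃, Nat.cast_add]

theorem rankHom_cls {M : X.Modules} (hM : FlatMod.IsFinLocFree M) : rankHom X (cls M) = rank M :=
  liftK_cls _ _ M hM

theorem rankHom_mul (x y : SGA6.Kvb X) : rankHom X (mulK X x y) = rankHom X x * rankHom X y := by
  revert y
  refine cls_induction (C := fun x => ∀ y, rankHom X (mulK X x y) = rankHom X x * rankHom X y)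
    (fun y => by simp) (fun x hx y => by simp [hx]) (fun x x' hx hx' y => by simp [hx, hx', add_mul])
    (fun E hE => ?_) x
  intro y
  refine cls_induction (C := fun y => rankHom X (mulK X (cls E) y) = rankHom X (cls E) * rankHom X y)
    (by simp) (fun y hy => by simp [hy]) (fun y y' hy hy' => by simp [hy, hy', mul_add]) (fun F hF => ?_) y
  rw [mulK_cls hE hF, rankHom_cls (isFinLocFree_tm hE hF), rankHom_cls hE, rankHom_cls hF, rank_tm hE hF,
    Nat.cast_mul]

variable (X) in
/-- The augmentation. -/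
def augK : @RingHom (SGA6.Kvb X) ℤ (kvbRing X).toNonAssocSemiring _ :=
  letI := kvbRing X
  { toFun := rankHom X
    map_one' := by
      change rankHom X (cls (Coh.structureModule X)) = 1
      rw [rankHom_cls (finLocFree_unit X), rank_of isRank_unit, Nat.cast_one]
    map_mul' := rankHom_mul
    map_zero' := map_zero (rankHom X)
    map_add' := map_add (rankHom X) }

variable (X) in
/-- Classes of bundles of positive rank. -/
def posK : Set (SGA6.Kvb X) :=
  {x | ∃ (n : ℕ) (E : X.Modules), 1 ≤ n ∧ FlatMod.IsFinLocFreeOfRank n E ∧ cls E = x}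

theorem cls_biprod {E F : X.Modules} (hE : FlatMod.IsFinLocFree E) (hF : FlatMod.IsFinLocFree F) :
    FlatMod.IsFinLocFreeOfRank (rank E + rank F) (E ⊞ F) ∧ cls (E ⊞ F) = cls E + cls F := by
  obtain ⟨S, e1, e2, e3, hS⟩ : ∃ S : ShortComplex X.Modules, S.X₁ = E ∧ S.X₂ = (E ⊞ F) ∧ S.X₃ = F ∧ S.ShortExact :=
    ⟨ShortComplex.mk (biprod.inl : E ⟶ E ⊞ F) (biprod.snd : E ⊞ F ⟶ F) biprod.inl_snd, rfl, rfl, rfl,
      (ShortComplex.Splitting.ofHasBinaryBiproduct E F).shortExact⟩
  generalize (E ⊞ F : X.Modules) = M at e2 ⊢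
  subst e1 e2 e3
  have h2 : FlatMod.IsFinLocFree S.X₂ := VBTwo.isFinLocFree_middle hS hE hF
  refine ⟨?_, K0Res.clSub_add (fun M : X.Modules => FlatMod.IsFinLocFree M) hS hE h2 hF⟩
  rw [← rank_middle hS hE hF]
  exact isRank h2

theorem posK_add {e f : SGA6.Kvb X} (he : e ∈ posK X) (hf : f ∈ posK X) : e + f ∈ posK X := by
  obtain ⟨n, E, hn, hE, rfl⟩ := he
  obtain ⟨m, F, hm, hF, rfl⟩ := hf
  obtain ⟨h, e⟩ := cls_biprod (finLocFree_of_rank hE) (finLocFree_of_rank hF)
  exact ⟨_, _, by rw [rank_of hE, rank_of hF]; omega, h, e⟩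

theorem posK_mul {e f : SGA6.Kvb X} (he : e ∈ posK X) (hf : f ∈ posK X) : mulK X e f ∈ posK X := by
  obtain ⟨n, E, hn, hE, rfl⟩ := he
  obtain ⟨m, F, hm, hF, rfl⟩ := hf
  refine ⟨_, CohB1.tensorMod E F, ?_, isRank (isFinLocFree_tm (finLocFree_of_rank hE) (finLocFree_of_rank hF)),
    (mulK_cls (finLocFree_of_rank hE) (finLocFree_of_rank hF)).symm⟩
  rw [rank_tm (finLocFree_of_rank hE) (finLocFree_of_rank hF), rank_of hE, rank_of hF]
  exact Nat.one_le_iff_ne_zero.2 (Nat.mul_ne_zero (by omega) (by omega))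

omit [ConnectedSpace ↥X] in
theorem posK_one : oneK X ∈ posK X := ⟨1, _, le_rfl, isRank_unit, rfl⟩

theorem posK_sub (x : SGA6.Kvb X) : ∃ e f, e ∈ posK X ∧ f ∈ posK X ∧ x = e - f := by
  refine cls_induction (C := fun x => ∃ e f, e ∈ posK X ∧ f ∈ posK X ∧ x = e - f)
    ⟨oneK X, oneK X, posK_one, posK_one, (sub_self _).symm⟩ ?_ ?_ ?_ x
  · rintro _ ⟨e, f, he, hf, rfl⟩
    exact ⟨f, e, hf, he, by abel⟩
  · rintro _ _ ⟨e, f, he, hf, rfl⟩ ⟨e', f', he', hf', rfl⟩
    exact ⟨e + e', f + f', posK_add he he', posK_add hf hf', by abel⟩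
  · intro M hM
    obtain ⟨h, e⟩ := cls_biprod hM (finLocFree_unit X)
    refine ⟨cls (M ⊞ Coh.structureModule X), oneK X, ⟨_, _, ?_, h, rfl⟩, posK_one, ?_⟩
    · rw [rank_of isRank_unit]; omega
    · rw [e, add_sub_cancel_right]

theorem lamK_eq_zero {n i : ℕ} {E : X.Modules} (hE : FlatMod.IsFinLocFreeOfRank n E) (hi : n < i) :
    lamK X i (cls E) = 0 := by
  have hE' := finLocFree_of_rank hE
  rw [lamK_cls i hE']
  have hL := isFinLocFree_extSh E i hE'
  have h0 : FlatMod.IsFinLocFreeOfRank 0 (extSh E i) := by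
    have := isRank hL
    rwa [rank_extSh hE', rank_of hE, Nat.choose_eq_zero_of_lt hi] at this
  have hz := isZero_of_rank_zero h0
  have h1 : (ShortComplex.mk (0 : extSh E i ⟶ extSh E i) (0 : extSh E i ⟶ extSh E i) zero_comp).ShortExact :=
    { exact := ShortComplex.exact_of_isZero_X₂ _ hz
      mono_f := ⟨fun _ _ _ => hz.eq_of_tgt _ _⟩
      epi_g := ⟨fun _ _ _ => hz.eq_of_src _ _⟩ }
  exact left_eq_add.1 (K0Res.clSub_add (fun M : X.Modules => FlatMod.IsFinLocFree M) h1 hL hL hL)

theorem exists_inv_lamK {n : ℕ} {E : X.Modules} (hE : FlatMod.IsFinLocFreeOfRank n E) :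
    ∃ y, mulK X (lamK X n (cls E)) y = oneK X := by
  have hE' := finLocFree_of_rank hE
  rw [lamK_cls n hE']
  have hL := isFinLocFree_extSh E n hE'
  have h1 : FlatMod.IsFinLocFreeOfRank 1 (extSh E n) := by
    have := isRank hL
    rwa [rank_extSh hE', rank_of hE, Nat.choose_self] at this
  obtain ⟨L', hL', ⟨e⟩⟩ := SymAlg.exists_inverse (ZeroSch.isInvertible_of_rankOne h1)
  have hL'f : FlatMod.IsFinLocFree L' := fun x => by
    obtain ⟨U, hx, ⟨ι⟩⟩ := hL' x
    exact ⟨U, 1, hx, ⟨ι ≪≫ (coproductUniqueIso fun _ : Fin 1 => Coh.structureModule (↑U : Scheme.{u})).symm⟩⟩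
  exact ⟨cls L', (mulK_cls hL hL'f).trans (cls_iso e (isFinLocFree_tm hL hL'f))⟩

variable (X) in
/-- The positive structure. -/
@[implicit_reducible]
def kvbPos : @LambdaRing.PosStructure (SGA6.Kvb X) (kvbRing X) (kvbLam X) :=
  letI := kvbRing X
  letI := kvbLam X
  { aug := augK X
    aug_surjective := fun z => ⟨(z : SGA6.Kvb X), map_intCast (augK X) z⟩
    pos := posK X
    add_mem := fun _ _ => posK_add
    mul_mem := fun _ _ => posK_mul
    natCast_mem := fun n hn => by
      induction n with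
      | zero => omega
      | succ n ih =>
        rcases Nat.eq_zero_or_pos n with rfl | hn'
        · rw [zero_add, Nat.cast_one]; exact posK_one
        · rw [Nat.cast_succ]; exact posK_add (ih hn') posK_one
    exists_sub := posK_sub
    aug_pos := by
      rintro _ ⟨n, E, hn, hE, rfl⟩
      change 0 < rankHom X (cls E)
      rw [rankHom_cls (finLocFree_of_rank hE), rank_of hE]
      omega
    lam_eq_zero := by
      rintro _ ⟨n, E, hn, hE, rfl⟩ i hi
      change rankHom X (cls E) < i at hi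
      rw [rankHom_cls (finLocFree_of_rank hE), rank_of hE] at hi
      exact lamK_eq_zero hE (by omega)
    isUnit_lam := by
      rintro _ ⟨n, E, hn, hE, rfl⟩
      have hn' : ((augK X) (cls E)).toNat = n := by
        change (rankHom X (cls E)).toNat = n
        rw [rankHom_cls (finLocFree_of_rank hE), rank_of hE, Int.toNat_natCast]
      rw [hn']
      obtain ⟨y, hy⟩ := exists_inv_lamK hE
      exact IsUnit.of_mul_eq_one y hy }

theorem exists_model : ∃ (K : Type (u + 1)) (_ : CommRing K) (_ : LambdaRing.LambdaOps K)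
    (P : LambdaRing.PosStructure K) (φ : SGA6.Kvb X →+ K), KRR.IsModel X K P φ :=
  ⟨SGA6.Kvb X, kvbRing X, kvbLam X, kvbPos X, AddMonoidHom.id _,
    letI := kvbRing X
    letI := kvbLam X
    { bijective := Function.bijective_id
      map_one := rfl
      map_mul := fun _ _ hE hF => mulK_cls hE hF
      map_lam := fun i E L hE _ hL => (lamK_spec X).2.2.2.2.1 i E L hE hL
      aug_cl := fun n E h => (rankHom_cls (finLocFree_of_rank h)).trans (by rw [rank_of h])
      mem_pos_iff := fun _ => Iff.rfl }⟩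

end Groth.Agent.SGA6Ext
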