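import Groth.Agent.SGA6Ext.Lambda
import Groth.Agent.W7Strat.Frame
import Groth.Agent.ResDesc.Dual
import Groth.Agent.PBundle.FrameTools

/-!
Inverse images of vector bundles on Grothendieck groups.
-/

set_option autoImplicit false
set_option backward.isDefEq.respectTransparency false
set_option backward.isDefEq.respectTransparency.types false
set_option linter.style.haveILetI false
set_option linter.unusedSectionVars false
set_option maxHeartbeats 1000000

universe u

open CategoryTheory CategoryTheory.Limits AlgebraicGeometry TopologicalSpace Opposite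
open Groth.Agent.QC (res resO res_res res_self res_smul app_res)

noncomputable section

namespace Groth.Agent.SGA6Ext

variable {X Y : Scheme.{u}}

/-- Bundles in an exact sequence have adapted frames. -/
theorem exists_frame_middle {S : ShortComplex X.Modules} (hS : S.ShortExact) (h₁ : FlatMod.IsFinLocFree S.X₁)
    (h₂ : FlatMod.IsFinLocFree S.X₂) (h₃ : FlatMod.IsFinLocFree S.X₃) (x : X) :
    ∃ (V : X.Opens) (a c : ℕ) (e : Fin a → Γ(S.X₁, V)) (b : Fin (a + c) → Γ(S.X₂, V)),
      x ∈ V ∧ TMul.IsFrame e ∧ TMul.IsFrame b ∧ ∀ i, b (Fin.castAdd c i) = S.f.app V (e i) := by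
  obtain ⟨U₁, a, e, hx₁, he⟩ := TMul.exists_isFrame h₁ x
  obtain ⟨U₃, c, g, hx₃, hg⟩ := TMul.exists_isFrame h₃ x
  obtain ⟨V, hV, hxV, hle⟩ := exists_isAffineOpen_mem_and_subset (X := X) (x := x) (U := U₁ ⊓ U₃) ⟨hx₁, hx₃⟩
  have hle₁ : V ≤ U₁ := (show V ≤ U₁ ⊓ U₃ from hle).trans inf_le_left
  have hle₃ : V ≤ U₃ := (show V ≤ U₁ ⊓ U₃ from hle).trans inf_le_right
  obtain ⟨s, hs⟩ := exists_section hS h₂ h₃ (V := V) ⟨hV, ⟨U₁, a, e, he, hle₁⟩, ⟨U₃, c, g, hg, hle₃⟩⟩
  have hgf : ∀ m, secMap S.g V (secMap S.f V m) = 0 := fun m => LinearMap.congr_fun (comp_zero hS V) m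
  have hgs : ∀ y, secMap S.g V (s y) = y := fun y => LinearMap.congr_fun hs y
  have hbij : Function.Bijective ((secMap S.f V).coprod s) := by
    refine ⟨fun p q hpq => ?_, fun m => ?_⟩
    · simp only [LinearMap.coprod_apply] at hpq
      have h2 : p.2 = q.2 := by
        have := congrArg (secMap S.g V) hpq
        rwa [map_add, map_add, hgf, hgf, hgs, hgs, zero_add, zero_add] at this
      rw [h2] at hpq
      exact Prod.ext (injective_f hS V (add_right_cancel hpq)) h2
    · obtain ⟨t, ht⟩ := ker_le hS V (show m - s (secMap S.g V m) ∈ LinearMap.ker (secMap S.g V) by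
        rw [LinearMap.mem_ker, map_sub, hgs, sub_self])
      exact ⟨(t, secMap S.g V m), by rw [LinearMap.coprod_apply, ht, sub_add_cancel]⟩
  let B₁ : Module.Basis (Fin a) Γ(X, V) (Sec S.X₁ V) := Module.Basis.ofEquivFun (he.equiv hle₁).symm
  let B₃ : Module.Basis (Fin c) Γ(X, V) (Sec S.X₃ V) := Module.Basis.ofEquivFun (hg.equiv hle₃).symm
  let B : Module.Basis (Fin (a + c)) Γ(X, V) (Sec S.X₂ V) :=
    ((B₁.prod B₃).map (LinearEquiv.ofBijective _ hbij)).reindex finSumFinEquiv
  have hB : TMul.IsFrame (N := S.X₂) (U := V) fun i => (B i : Γ(S.X₂, V)) :=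
    PBundle.isFrame_of_bijective (LocFree.isQCoh_of_isFinLocFree h₂) hV (by
      rw [show (fun z => ∑ i, z i • (B i : Γ(S.X₂, V))) = B.equivFun.symm from funext fun z =>
        (Module.Basis.equivFun_symm_apply B z).symm]
      exact B.equivFun.symm.bijective)
  have hB₁ : TMul.IsFrame (N := S.X₁) (U := V) fun i => (B₁ i : Γ(S.X₁, V)) :=
    PBundle.isFrame_of_bijective (LocFree.isQCoh_of_isFinLocFree h₁) hV (by
      rw [show (fun z => ∑ i, z i • (B₁ i : Γ(S.X₁, V))) = B₁.equivFun.symm from funext fun z =>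
        (Module.Basis.equivFun_symm_apply B₁ z).symm]
      exact B₁.equivFun.symm.bijective)
  refine ⟨V, a, c, fun i => B₁ i, fun i => B i, hxV, hB₁, hB, fun i => ?_⟩
  show B (Fin.castAdd c i) = secMap S.f V (B₁ i)
  simp only [B, Module.Basis.reindex_apply, finSumFinEquiv_symm_apply_castAdd, Module.Basis.map_apply,
    LinearEquiv.ofBijective_apply, LinearMap.coprod_apply, Module.Basis.prod_apply_inl_fst,
    Module.Basis.prod_apply_inl_snd, map_zero, add_zero]

theorem isFinLocFree_pullback (f : X ⟶ Y) {E : Y.Modules} (hE : FlatMod.IsFinLocFree E) :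
    FlatMod.IsFinLocFree ((Scheme.Modules.pullback f).obj E) :=
  ResDesc.isFinLocFree_of_frames fun x =>
    let ⟨U, n, _, hU, he⟩ := TMul.exists_isFrame hE (f.base x)
    ⟨f ⁻¹ᵁ U, n, _, hU, he.pullback f⟩

/-- Inverse images of exact sequences of bundles are exact. -/
theorem shortExact_pullback (f : X ⟶ Y) {S : ShortComplex Y.Modules} (hS : S.ShortExact)
    (h₁ : FlatMod.IsFinLocFree S.X₁) (h₂ : FlatMod.IsFinLocFree S.X₂) (h₃ : FlatMod.IsFinLocFree S.X₃) :
    (S.map (Scheme.Modules.pullback f)).ShortExact := by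
  haveI := hS.epi_g
  let G : X.Opens → Prop := fun W => ∃ (V : Y.Opens) (a c : ℕ) (e : Fin a → Γ(S.X₁, V))
    (b : Fin (a + c) → Γ(S.X₂, V)), TMul.IsFrame e ∧ TMul.IsFrame b ∧
      (∀ i, b (Fin.castAdd c i) = S.f.app V (e i)) ∧ W ≤ f ⁻¹ᵁ V
  have hG : IsBase G := fun U x hx => by
    obtain ⟨V, a, c, e, b, hxV, he, hb, hfe⟩ := exists_frame_middle hS h₁ h₂ h₃ (f.base x)
    exact ⟨U ⊓ f ⁻¹ᵁ V, ⟨V, a, c, e, b, he, hb, hfe, inf_le_right⟩, ⟨hx, hxV⟩, inf_le_left⟩
  haveI : Mono ((Scheme.Modules.pullback f).map S.f) := by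
    refine mono_of_base hG _ fun W hW => ?_
    obtain ⟨V, a, c, e, b, he, hb, hfe, hle⟩ := hW
    let η := (Scheme.Modules.pullbackPushforwardAdjunction f).unit
    have hnat : ∀ i, ((Scheme.Modules.pullback f).map S.f).app W
        (res ((Scheme.Modules.pullback f).obj S.X₁) hle ((η.app S.X₁).app V (e i))) =
        res ((Scheme.Modules.pullback f).obj S.X₂) hle ((η.app S.X₂).app V (b (Fin.castAdd c i))) := fun i => by
      rw [← app_res, hfe]
      exact congrArg (res ((Scheme.Modules.pullback f).obj S.X₂) hle)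
        (congrArg (fun χ : S.X₁ ⟶ (Scheme.Modules.pushforward f).obj ((Scheme.Modules.pullback f).obj S.X₂) =>
          χ.app V (e i)) (η.naturality S.f)).symm
    intro s t hst
    obtain ⟨u, rfl⟩ := (he.pullback f).comb_surjective hle s
    obtain ⟨v, rfl⟩ := (he.pullback f).comb_surjective hle t
    simp only [map_sum, Scheme.Modules.Hom.app_smul] at hst
    erw [Finset.sum_congr rfl fun i _ => congrArg (u i • ·) (hnat i),
      Finset.sum_congr rfl fun i _ => congrArg (v i • ·) (hnat i)] at hst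
    have key : ∀ z : Fin a → Γ(X, W), ∑ i, z i • res ((Scheme.Modules.pullback f).obj S.X₂) hle
        ((η.app S.X₂).app V (b (Fin.castAdd c i))) =
        ∑ j, Fin.append z (0 : Fin c → Γ(X, W)) j •
          res ((Scheme.Modules.pullback f).obj S.X₂) hle ((η.app S.X₂).app V (b j)) := fun z => by
      rw [Fin.sum_univ_add]
      simp only [Fin.append_left, Fin.append_right, Pi.zero_apply, zero_smul, Finset.sum_const_zero, add_zero]
    have huv : Fin.append u (0 : Fin c → Γ(X, W)) = Fin.append v 0 :=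
      (hb.pullback f).comb_injective hle ((key u).symm.trans (hst.trans (key v)))
    have : u = v := funext fun i => by
      have := congrFun huv (Fin.castAdd c i)
      rwa [Fin.append_left, Fin.append_left] at this
    rw [this]
  haveI : Epi (S.map (Scheme.Modules.pullback f)).g :=
    inferInstanceAs (Epi ((Scheme.Modules.pullback f).map S.g))
  refine ShortComplex.ShortExact.mk' ?_ (inferInstanceAs (Mono ((Scheme.Modules.pullback f).map S.f))) inferInstance
  exact ShortComplex.exact_of_g_is_cokernel _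
    (CokernelCofork.mapIsColimit _ hS.gIsCokernel (Scheme.Modules.pullback f))

/-- The inverse image on classes of bundles. -/
def pullK (f : X ⟶ Y) : SGA6.Kvb Y →+ SGA6.Kvb X :=
  liftK (fun E => cls ((Scheme.Modules.pullback f).obj E.1)) fun S h₁ h₂ h₃ hS =>
    K0Res.clSub_add (fun M : X.Modules => FlatMod.IsFinLocFree M) (shortExact_pullback f hS h₁ h₂ h₃)
      (isFinLocFree_pullback f h₁) (isFinLocFree_pullback f h₂) (isFinLocFree_pullback f h₃)

theorem pullK_cls (f : X ⟶ Y) {E : Y.Modules} (hE : FlatMod.IsFinLocFree E) :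
    pullK f (cls E) = cls ((Scheme.Modules.pullback f).obj E) := liftK_cls _ _ E hE

end Groth.Agent.SGA6Ext
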