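import Groth.Agent.SGA6Ext.Lambda
import Groth.Agent.W7Strat.Frame
import Groth.Agent.ResDesc.Dual
import Groth.Agent.ExtBC.ExtPow

/-!
Existence of exterior powers of finite locally free modules.
-/

set_option autoImplicit false
set_option backward.isDefEq.respectTransparency false
set_option backward.isDefEq.respectTransparency.types false
set_option linter.style.haveILetI false
set_option linter.unusedSectionVars false
set_option maxHeartbeats 1000000

universe u

open CategoryTheory CategoryTheory.Limits AlgebraicGeometry TopologicalSpace Opposite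
open Groth.Agent.QC (res resO res_res res_self res_smul app_res resO_resO resO_self)
open scoped TensorProduct

noncomputable section

namespace Groth.Agent.SGA6Ext

section Alg

variable {R S : Type u} [CommRing R] [CommRing S] {M N : Type u} [AddCommGroup M] [Module R M]
  [AddCommGroup N] [Module S N]

/-- Semilinear maps out of exterior powers are determined on wedges. -/
theorem semilinear_ext {A : Type u} [AddCommGroup A] [Module S A] (σ : R →+* S) {k : ℕ}
    (F G : ↥(⋀[R]^k M) →+ A) (hF : ∀ r z, F (r • z) = σ r • F z) (hG : ∀ r z, G (r • z) = σ r • G z)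
    (h : ∀ e, F (exteriorPower.ιMulti R k e) = G (exteriorPower.ιMulti R k e)) : F = G := by
  refine AddMonoidHom.ext fun z => ?_
  have hz : z ∈ Submodule.span R (Set.range (exteriorPower.ιMulti R k (M := M))) := by
    rw [exteriorPower.ιMulti_span]; trivial
  induction hz using Submodule.span_induction with
  | zero => rw [map_zero, map_zero]
  | add a b _ _ ha hb => rw [map_add, map_add, ha, hb]
  | smul r a _ ha => rw [hF, hG, ha]
  | mem a ha =>
    obtain ⟨e, rfl⟩ := ha
    exact h e

end Alg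

variable {X : Scheme.{u}} (E : X.Modules) (k : ℕ)

/-- Restriction of exterior powers of sections. -/
def extRes {V U : X.Opens} (h : V ≤ U) : ↥(⋀[Γ(X, U)]^k (Sec E U)) →+ ↥(⋀[Γ(X, V)]^k (Sec E V)) :=
  extS (resO X h) (secRes E h) (secRes_smul E h) k

theorem extRes_ιMulti {V U : X.Opens} (h : V ≤ U) (e : Fin k → Sec E U) :
    extRes E k h (exteriorPower.ιMulti _ k e) = exteriorPower.ιMulti _ k (fun j => secRes E h (e j)) :=
  extS_ιMulti _ _ k e

theorem extRes_smul {V U : X.Opens} (h : V ≤ U) (r : Γ(X, U)) (z : ↥(⋀[Γ(X, U)]^k (Sec E U))) :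
    extRes E k h (r • z) = resO X h r • extRes E k h z :=
  extS_smul _ _ k r z

theorem extRes_self {U : X.Opens} (h : U ≤ U) (z : ↥(⋀[Γ(X, U)]^k (Sec E U))) : extRes E k h z = z := by
  refine DFunLike.congr_fun (semilinear_ext (resO X h) (extRes E k h) (AddMonoidHom.id _) (extRes_smul E k h)
    (fun r z => ?_) fun e => ?_) z
  · simp only [AddMonoidHom.id_apply, resO_self]
  · rw [extRes_ιMulti, AddMonoidHom.id_apply]
    congr 1
    funext j
    exact res_self E _ _

theorem extRes_extRes {W V U : X.Opens} (h : W ≤ V) (h' : V ≤ U) (z : ↥(⋀[Γ(X, U)]^k (Sec E U))) :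
    extRes E k h (extRes E k h' z) = extRes E k (h.trans h') z := by
  refine DFunLike.congr_fun (semilinear_ext (resO X (h.trans h')) ((extRes E k h).comp (extRes E k h'))
    (extRes E k (h.trans h')) (fun r z => ?_) (extRes_smul E k _) fun e => ?_) z
  · simp only [AddMonoidHom.comp_apply, extRes_smul, resO_resO]
  · rw [AddMonoidHom.comp_apply, extRes_ιMulti, extRes_ιMulti, extRes_ιMulti]
    congr 1
    funext j
    exact res_res E _ _ _

/-- The presheaf of exterior powers of sections, as groups. -/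
def extAb : (Opens X)ᵒᵖ ⥤ AddCommGrpCat.{u} where
  obj U := AddCommGrpCat.of ↥(⋀[Γ(X, U.unop)]^k (Sec E U.unop))
  map f := AddCommGrpCat.ofHom (extRes E k (leOfHom f.unop))
  map_id U := AddCommGrpCat.hom_ext (AddMonoidHom.ext fun z => extRes_self E k _ z)
  map_comp f g := AddCommGrpCat.hom_ext (AddMonoidHom.ext fun z =>
    (extRes_extRes E k (leOfHom g.unop) (leOfHom f.unop) z).symm)

instance (U : (Opens X)ᵒᵖ) : Module (X.ringCatSheaf.obj.obj U) ((extAb E k).obj U) :=
  inferInstanceAs (Module Γ(X, U.unop) ↥(⋀[Γ(X, U.unop)]^k (Sec E U.unop)))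

/-- The presheaf of exterior powers of sections. -/
def extPre : PresheafOfModules.{u} X.ringCatSheaf.obj :=
  PresheafOfModules.ofPresheaf (extAb E k) fun {U V} f r z => extRes_smul E k (leOfHom f.unop) r z

/-- The sheaf of exterior powers. -/
def extSh : X.Modules :=
  (PresheafOfModules.sheafification.{u, u, u, u} (J := Opens.grothendieckTopology X) (𝟙 X.ringCatSheaf.obj)).obj
    (extPre E k)

/-- The unit. -/
def extUnit : extPre E k ⟶ (extSh E k).val :=
  (PresheafOfModules.sheafificationAdjunction.{u, u, u, u} (J := Opens.grothendieckTopology X)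
    (𝟙 X.ringCatSheaf.obj)).unit.app (extPre E k)

/-- The unit on sections. -/
def eta (U : X.Opens) : ↥(⋀[Γ(X, U)]^k (Sec E U)) →ₗ[Γ(X, U)] Sec (extSh E k) U where
  toFun z := ((extUnit E k).app (op U)).hom z
  map_add' a b := map_add ((extUnit E k).app (op U)).hom a b
  map_smul' r z := ((extUnit E k).app (op U)).hom.map_smul r z

theorem eta_res {V U : X.Opens} (h : V ≤ U) (z : ↥(⋀[Γ(X, U)]^k (Sec E U))) :
    secRes (extSh E k) h (eta E k U z) = eta E k V (extRes E k h z) :=
  (PresheafOfModules.naturality_apply (extUnit E k) (homOfLE h).op z).symm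

theorem toPresheaf_extUnit :
    (PresheafOfModules.toPresheaf _).map (extUnit E k) =
      CategoryTheory.toSheafify (Opens.grothendieckTopology X) _ :=
  PresheafOfModules.toPresheaf_map_sheafificationAdjunction_unit_app.{u, u, u, u}
    (J := Opens.grothendieckTopology X) (𝟙 X.ringCatSheaf.obj) _

theorem exists_eta {U : X.Opens} (s : Sec (extSh E k) U) {x : X} (hx : x ∈ U) :
    ∃ (V : X.Opens) (h : V ≤ U) (z : ↥(⋀[Γ(X, V)]^k (Sec E V))),
      x ∈ V ∧ eta E k V z = secRes (extSh E k) h s := by
  haveI : Presheaf.IsLocallySurjective (Opens.grothendieckTopology X)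
      ((PresheafOfModules.toPresheaf _).map (extUnit E k)) := by
    rw [toPresheaf_extUnit]; infer_instance
  obtain ⟨V, i, ⟨p, hp⟩, hxV⟩ := Presheaf.imageSieve_mem (Opens.grothendieckTopology X)
    ((PresheafOfModules.toPresheaf _).map (extUnit E k)) (U := op U) s x hx
  exact ⟨V, leOfHom i, p, hxV, hp⟩

theorem exists_extRes_eq {U : X.Opens} {p q : ↥(⋀[Γ(X, U)]^k (Sec E U))} (h : eta E k U p = eta E k U q)
    {x : X} (hx : x ∈ U) :
    ∃ (V : X.Opens) (hV : V ≤ U), x ∈ V ∧ extRes E k hV p = extRes E k hV q := by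
  haveI : Presheaf.IsLocallyInjective (Opens.grothendieckTopology X)
      ((PresheafOfModules.toPresheaf _).map (extUnit E k)) := by
    rw [toPresheaf_extUnit]; infer_instance
  obtain ⟨V, i, hi, hxV⟩ := Presheaf.equalizerSieve_mem (Opens.grothendieckTopology X)
    ((PresheafOfModules.toPresheaf _).map (extUnit E k)) (X := op U) p q h x hx
  exact ⟨V, leOfHom i, hxV, hi⟩

section Small

variable {U : X.Opens} {n : ℕ} {e : Fin n → Γ(E, U)}

/-- Frames give bases of the exterior powers of sections on every smaller open. -/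
theorem exists_wedge (he : TMul.IsFrame e) :
    ∃ (w : Fin (n.choose k) → ↥(⋀[Γ(X, U)]^k (Sec E U))), ∀ (V : X.Opens) (hV : V ≤ U),
      Function.Bijective fun c : Fin (n.choose k) → Γ(X, V) => ∑ i, c i • extRes E k hV (w i) := by
  classical
  let J := Fintype.equivFinOfCardEq (α := Set.powersetCard (Fin n) k) (n := n.choose k)
    (by rw [Fintype.card_eq_nat_card, Set.powersetCard.card, Nat.card_fin])
  refine ⟨fun i => exteriorPower.ιMulti Γ(X, U) k fun j =>
      (e (Set.powersetCard.ofFinEmbEquiv.symm (J.symm i) j) : Sec E U), fun V hV => ?_⟩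
  let b : Module.Basis (Fin n) Γ(X, V) (Sec E V) :=
    Module.Basis.ofEquivFun (he.equiv hV).symm
  have hb : ∀ i, b i = secRes E hV (e i) := fun i => by
    simp only [b, Module.Basis.coe_ofEquivFun, LinearEquiv.symm_symm]
    change ∑ j, (Pi.single i (1 : Γ(X, V)) : Fin n → Γ(X, V)) j • res E hV (e j) = _
    rw [Finset.sum_eq_single i (fun j _ hj => by rw [Pi.single_eq_of_ne hj, zero_smul]) (fun h => by simp at h),
      Pi.single_eq_same, one_smul]
    rfl
  let B := (b.exteriorPower k).reindex J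
  have hB : ∀ i, B i = extRes E k hV (exteriorPower.ιMulti Γ(X, U) k fun j =>
      (e (Set.powersetCard.ofFinEmbEquiv.symm (J.symm i) j) : Sec E U)) := fun i => by
    rw [Module.Basis.reindex_apply, exteriorPower.basis_apply, exteriorPower.ιMulti_family, extRes_ιMulti]
    simp only [Function.comp_def, hb]
  have : (fun c : Fin (n.choose k) → Γ(X, V) => ∑ i, c i • extRes E k hV (exteriorPower.ιMulti Γ(X, U) k fun j =>
      (e (Set.powersetCard.ofFinEmbEquiv.symm (J.symm i) j) : Sec E U))) = B.equivFun.symm := by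
    funext c
    rw [Module.Basis.equivFun_symm_apply]
    simp only [hB]
  rw [this]
  exact B.equivFun.symm.bijective

/-- The unit is bijective below a frame. -/
theorem eta_bijective_small (he : TMul.IsFrame e) (V : X.Opens) (hV : V ≤ U) :
    Function.Bijective (eta E k V) := by
  classical
  obtain ⟨w, hw⟩ := exists_wedge E k he
  have hres : ∀ {W T : X.Opens} (h : W ≤ T) (hT : T ≤ U) (c : Fin (n.choose k) → Γ(X, T)),
      extRes E k h (∑ i, c i • extRes E k hT (w i)) = ∑ i, resO X h (c i) • extRes E k (h.trans hT) (w i) :=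
    fun h hT c => by simp only [map_sum, extRes_smul, extRes_extRes]
  have inj : ∀ (T : X.Opens) (hT : T ≤ U), Function.Injective (eta E k T) := fun T hT p q hpq => by
    obtain ⟨c, rfl⟩ := (hw T hT).2 p
    obtain ⟨d, rfl⟩ := (hw T hT).2 q
    suffices h : c = d by rw [h]
    funext i
    refine TopCat.Presheaf.section_ext X.sheaf T _ _ fun x hx => ?_
    obtain ⟨W, hW, hxW, h⟩ := exists_extRes_eq E k hpq hx
    rw [hres, hres] at h
    have h' := congrFun ((hw W (hW.trans hT)).1 h) i
    have h'' := congrArg (X.presheaf.germ W x hxW).hom h'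
    exact (TopCat.Presheaf.germ_res_apply X.presheaf (homOfLE hW) x hxW (c i)).symm.trans
      (h''.trans (TopCat.Presheaf.germ_res_apply X.presheaf (homOfLE hW) x hxW (d i)))
  refine ⟨inj V hV, fun s => ?_⟩
  choose W hW p hxW hp using fun x : V => exists_eta E k s x.2
  choose c hc using fun x : V => (hw (W x) ((hW x).trans hV)).2 (p x)
  have hcomp : ∀ (x y : V) (T : X.Opens) (h1 : T ≤ W x) (h2 : T ≤ W y),
      (fun i => resO X h1 (c x i)) = fun i => resO X h2 (c y i) := fun x y T h1 h2 => by
    apply (hw T ((h1.trans (hW x)).trans hV)).1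
    apply inj T ((h1.trans (hW x)).trans hV)
    have e1 : eta E k T (extRes E k h1 (p x)) = secRes (extSh E k) (h1.trans (hW x)) s := by
      rw [← eta_res, hp]; exact res_res _ _ _ _
    have e2 : eta E k T (extRes E k h2 (p y)) = secRes (extSh E k) (h2.trans (hW y)) s := by
      rw [← eta_res, hp]; exact res_res _ _ _ _
    have e3 := e1.trans e2.symm
    rw [← hc, ← hc, hres, hres] at e3
    exact e3
  choose a ha using fun i => (TopCat.Sheaf.existsUnique_gluing' X.sheaf W V
    (fun x => homOfLE (hW x)) (fun x hx => Opens.mem_iSup.mpr ⟨⟨x, hx⟩, hxW _⟩) (fun x => c x i)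
    (fun x y => congrFun (hcomp x y _ inf_le_left inf_le_right) i)).exists
  refine ⟨∑ i, a i • extRes E k hV (w i), Groth.Agent.QC.section_eq_of_locally fun x hx =>
    ⟨W ⟨x, hx⟩, hW _, hxW _, ?_⟩⟩
  change secRes (extSh E k) _ (eta E k V _) = secRes (extSh E k) _ s
  rw [eta_res, hres, ← hp, ← hc]
  exact congrArg _ (Finset.sum_congr rfl fun i _ => congrArg (· • _) (ha i ⟨x, hx⟩))

end Small

theorem exists_frame_extSh {U : X.Opens} {n : ℕ} {e : Fin n → Γ(E, U)} (he : TMul.IsFrame e) :
    ∃ f : Fin (n.choose k) → Γ(extSh E k, U), TMul.IsFrame f := by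
  obtain ⟨w, hw⟩ := exists_wedge E k he
  refine ⟨fun i => eta E k U (w i), W7Strat.isFrame_of_bijective fun V hV => ?_⟩
  have : (fun c : Fin (n.choose k) → Γ(X, V) => ∑ i, c i • res (extSh E k) hV (eta E k U (w i))) =
      (eta E k V) ∘ fun c => ∑ i, c i • extRes E k hV (w i) := by
    funext c
    rw [Function.comp_apply, map_sum]
    refine Finset.sum_congr rfl fun i _ => ?_
    rw [map_smul, ← eta_res]
    rfl
  rw [this]
  exact (eta_bijective_small E k he V hV).comp (hw V hV)

theorem isFinLocFree_extSh (hE : FlatMod.IsFinLocFree E) : FlatMod.IsFinLocFree (extSh E k) := by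
  refine ResDesc.isFinLocFree_of_frames fun x => ?_
  obtain ⟨U, n, e, hx, he⟩ := TMul.exists_isFrame hE x
  obtain ⟨f, hf⟩ := exists_frame_extSh E k he
  exact ⟨U, n.choose k, f, hx, hf⟩

/-- Restriction to a basic open localises exterior powers of sections. -/
theorem extRes_localized (hq : Coh.IsQCoh E) {U : X.Opens} (hU : IsAffineOpen U) (r : Γ(X, U)) :
    (∀ y : ↥(⋀[Γ(X, X.basicOpen r)]^k (Sec E (X.basicOpen r))), ∃ (a : ℕ) (z : ↥(⋀[Γ(X, U)]^k (Sec E U))),
      extRes E k (X.basicOpen_le r) z = resO X (X.basicOpen_le r) (r ^ a) • y) ∧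
    ∀ z : ↥(⋀[Γ(X, U)]^k (Sec E U)), extRes E k (X.basicOpen_le r) z = 0 → ∃ a : ℕ, r ^ a • z = 0 := by
  let D := X.basicOpen r
  have hle : D ≤ U := X.basicOpen_le r
  letI := Module.compHom (Sec E D) (resO X hle)
  haveI := hU.isLocalization_basicOpen r
  haveI : IsScalarTower Γ(X, U) Γ(X, D) (Sec E D) :=
    ⟨fun a c m => mul_smul (resO X hle a) c m⟩
  have hloc : Groth.Agent.QC.IsLoc E U := Groth.Agent.QC.isLoc_of_isQCoh hU (hM := hq)
  let g : Sec E U →ₗ[Γ(X, U)] Sec E D :=
    { toFun := secRes E hle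
      map_add' := map_add _
      map_smul' := fun a s => secRes_smul E hle a s }
  haveI hg : IsLocalizedModule (Submonoid.powers r) g := by
    refine IsLocalizedModule.Away.mk_of_addCommGroup ?_ ?_ ?_
    · have hu : IsUnit (algebraMap Γ(X, U) Γ(X, D) r) := IsLocalization.Away.algebraMap_isUnit r
      rw [Module.End.isUnit_iff]
      exact hu.smul_bijective
    · intro y
      obtain ⟨a, s, hs⟩ := hloc.exists_extend r y
      refine ⟨a, s, ?_⟩
      change resO X hle (r ^ a) • y = res E (X.basicOpen_le r) s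
      rw [hs, map_pow]
    · intro s hs
      exact hloc.exists_pow_smul_eq_zero r s hs
  have hbc := ExtBC.isBaseChange_extMap ((isLocalizedModule_iff_isBaseChange (Submonoid.powers r) Γ(X, D) g).1 hg) k
  have hLM := (isLocalizedModule_iff_isBaseChange (Submonoid.powers r) Γ(X, D) (ExtBC.extMap Γ(X, D) g k)).2 hbc
  have hsm : ∀ (a : Γ(X, U)) (y : ↥(⋀[Γ(X, D)]^k (Sec E D))), a • y = resO X hle a • y := fun a y =>
    (IsScalarTower.algebraMap_smul Γ(X, D) a y).symm
  have heq : (ExtBC.extMap Γ(X, D) g k).toAddMonoidHom = extRes E k hle := by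
    refine semilinear_ext (resO X hle) _ _ (fun a z => ?_) (extRes_smul E k hle) fun v => ?_
    · exact ((ExtBC.extMap Γ(X, D) g k).map_smul a z).trans (hsm a _)
    · rw [extRes_ιMulti]
      exact ExtBC.extMap_ιMulti g k v
  refine ⟨fun y => ?_, fun z hz => ?_⟩
  · obtain ⟨⟨z, ⟨_, a, rfl⟩⟩, hz⟩ := hLM.surj y
    exact ⟨a, z, ((DFunLike.congr_fun heq z).symm.trans hz.symm).trans (hsm _ y)⟩
  · obtain ⟨⟨_, a, rfl⟩, ha⟩ := hLM.exists_of_eq (x₁ := z) (x₂ := 0) ((DFunLike.congr_fun heq z).trans (hz.trans (map_zero _).symm))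
    exact ⟨a, ha.trans (smul_zero _)⟩

theorem eta_bijective (hE : FlatMod.IsFinLocFree E) {U : X.Opens} (hU : IsAffineOpen U) :
    Function.Bijective (eta E k U) := by
  classical
  have hq := LocFree.isQCoh_of_isFinLocFree hE
  have hqL := LocFree.isQCoh_of_isFinLocFree (isFinLocFree_extSh E k hE)
  have hcov : ∀ x : X, x ∈ U → ∃ r : Γ(X, U), x ∈ X.basicOpen r ∧ Function.Bijective (eta E k (X.basicOpen r)) :=
    fun x hx => by
      obtain ⟨V, n, e, hxV, he⟩ := TMul.exists_isFrame hE x
      obtain ⟨r, hr, hxr⟩ := hU.exists_basicOpen_le (V := V) ⟨x, hxV⟩ hx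
      exact ⟨r, hxr, eta_bijective_small E k he _ hr⟩
  have htop : ∀ I : Ideal Γ(X, U), (∀ r : Γ(X, U), Function.Bijective (eta E k (X.basicOpen r)) → ∃ a : ℕ, r ^ a ∈ I) →
      (1 : Γ(X, U)) ∈ I := fun I hI => by
    let T : Set Γ(X, U) := {r | Function.Bijective (eta E k (X.basicOpen r))}
    have hspan : Ideal.span T = ⊤ := by
      rw [← hU.self_le_iSup_basicOpen_iff]
      intro x hx
      obtain ⟨r, hxr, hr⟩ := hcov x hx
      exact Opens.mem_iSup.2 ⟨⟨r, hr⟩, hxr⟩
    have hle : Ideal.span T ≤ I.radical := Ideal.span_le.2 fun r hr => hI r hr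
    rw [hspan, top_le_iff, Ideal.radical_eq_top] at hle
    rw [hle]
    trivial
  refine ⟨(injective_iff_map_eq_zero (eta E k U)).2 fun z hz => ?_, fun t => ?_⟩
  · let I : Ideal Γ(X, U) := LinearMap.ker (LinearMap.toSpanSingleton Γ(X, U) _ z)
    have h := htop I fun r hr => by
      obtain ⟨a, ha⟩ := (extRes_localized E k hq hU r).2 z (hr.1 (by
        rw [← eta_res, hz, map_zero, map_zero]))
      exact ⟨a, ha⟩
    exact (one_smul _ z).symm.trans h
  · let I : Ideal Γ(X, U) := (LinearMap.range (eta E k U)).comap (LinearMap.toSpanSingleton Γ(X, U) _ t)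
    have h := htop I fun r hr => by
      obtain ⟨y, hy⟩ := hr.2 (secRes (extSh E k) (X.basicOpen_le r) t)
      obtain ⟨a, z, hz⟩ := (extRes_localized E k hq hU r).1 y
      have h0 : secRes (extSh E k) (X.basicOpen_le r) (eta E k U z - r ^ a • t) = 0 := by
        rw [map_sub, eta_res, hz, map_smul, hy, secRes_smul, sub_self]
      obtain ⟨b, hb⟩ := (Groth.Agent.QC.isLoc_of_isQCoh hU (hM := hqL)).exists_pow_smul_eq_zero r
        (eta E k U z - r ^ a • t : Sec (extSh E k) U) h0
      refine ⟨b + a, r ^ b • z, ?_⟩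
      have hb' : r ^ b • (eta E k U z - r ^ a • t) = 0 := hb
      rw [smul_sub, sub_eq_zero, ← mul_smul, ← pow_add] at hb'
      rw [map_smul, hb']
      rfl
    obtain ⟨z, hz⟩ := h
    exact ⟨z, hz.trans (one_smul _ t)⟩

theorem isExtPow_extSh (hE : FlatMod.IsFinLocFree E) : ExtPow.IsExtPow k E (extSh E k) := by
  refine ⟨fun U => (LinearEquiv.ofBijective (eta E k U.1) (eta_bijective E k hE U.2)).symm, fun U V h e => ?_⟩
  change secRes (extSh E k) h (eta E k U.1 (exteriorPower.ιMulti _ k e)) =
    eta E k V.1 (exteriorPower.ιMulti _ k fun j => secRes E h (e j))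
  rw [eta_res, extRes_ιMulti]

/-- **Exterior powers of finite locally free modules exist.** -/
theorem exists_extPow (i : ℕ) (E : X.Modules) (hE : FlatMod.IsFinLocFree E) :
    ∃ L : X.Modules, FlatMod.IsFinLocFree L ∧ ExtPow.IsExtPow i E L :=
  ⟨extSh E i, isFinLocFree_extSh E i hE, isExtPow_extSh E i hE⟩

end Groth.Agent.SGA6Ext
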