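import Groth.Agent.SGA6Ext.Main
import Groth.Agent.DQPush.QcFlasque
import Groth.Agent.TMul.Assoc
import Mathlib.RingTheory.PowerSeries.Basic

/-!
The pre-λ-ring structure on the Grothendieck group of vector bundles.
-/

set_option autoImplicit false
set_option backward.isDefEq.respectTransparency false
set_option backward.isDefEq.respectTransparency.types false
set_option linter.style.haveILetI false
set_option linter.unusedSectionVars false
set_option maxHeartbeats 1000000

universe u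

open CategoryTheory CategoryTheory.Limits AlgebraicGeometry TopologicalSpace Opposite
open Groth.Agent.QC (res resO res_res res_self res_smul app_res)
open TMul (tm)
open scoped TensorProduct ZeroObject

noncomputable section

namespace Groth.Agent.SGA6Ext

variable {X : Scheme.{u}} {M N P : X.Modules} {G : X.Opens → Prop}

/-- Compatible linear maps on a basis give a morphism. -/
theorem exists_linHom (hG : IsBase G) (f : ∀ V : X.Opens, G V → Γ(M, V) →ₗ[Γ(X, V)] Γ(P, V))
    (hf : ∀ (W V : X.Opens) (hW : G W) (hV : G V) (h : W ≤ V) (m : Γ(M, V)),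
      res P h (f V hV m) = f W hW (res M h m)) :
    ∃ φ : M ⟶ P, ∀ (V : X.Opens) (hV : G V) (m : Γ(M, V)), φ.app V m = f V hV m := by
  classical
  have hex : ∀ (U : X.Opens) (m : Γ(M, U)), ∃ t : Γ(P, U),
      ∀ (V : X.Opens) (hV : G V) (hVU : V ≤ U), res P hVU t = f V hV (res M hVU m) :=
    fun U m => glue_base hG U (fun V hV hVU => f V hV (res M hVU m)) fun W V hW hV h hVU => by
      rw [hf W V hW hV h, res_res]
  choose b hb using hex
  have badd : ∀ U m m', b U (m + m') = b U m + b U m' := fun U m m' => ext_base hG fun V hVU hV => by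
    simp only [map_add, hb U _ V hV hVU]
  have bsmul : ∀ U (r : Γ(X, U)) m, b U (r • m) = r • b U m := fun U r m => ext_base hG fun V hVU hV => by
    simp only [res_smul, map_smul, hb U _ V hV hVU]
  have bres : ∀ {V U : X.Opens} (h : V ≤ U) (m : Γ(M, U)), res P h (b U m) = b V (res M h m) :=
    fun {V U} h m => ext_base hG fun W hW hWG => by
      rw [res_res, hb U _ W hWG, hb V _ W hWG, res_res]
  let φ : M ⟶ P := ⟨PresheafOfModules.homMk
    { app := fun U => AddCommGrpCat.ofHom (AddMonoidHom.mk' (b U.unop) (badd U.unop))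
      naturality := fun U V h => by
        ext m
        exact (bres (leOfHom h.unop) m).symm }
    fun U r m => bsmul U.unop r m⟩
  refine ⟨φ, fun V hV m => ?_⟩
  have h := hb V m V hV le_rfl
  rw [res_self, res_self] at h
  exact h

theorem isBase_affine : IsBase (X := X) fun V => IsAffineOpen V := fun U x hx => by
  obtain ⟨V, hV, hxV, hle⟩ := exists_isAffineOpen_mem_and_subset (X := X) (x := x) (U := U) hx
  exact ⟨V, hV, hxV, hle⟩

/-- Exterior powers are unique. -/
theorem nonempty_iso_of_phi {k : ℕ} {E L L' : X.Modules} {φ : Phi k E L} (hφ : PhiCompat φ) {φ' : Phi k E L'}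
    (hφ' : PhiCompat φ') : Nonempty (L ≅ L') := by
  obtain ⟨ψ, hψ⟩ := exists_linHom (M := L) (P := L') isBase_affine
    (fun V hV => ((φ ⟨V, hV⟩).trans (φ' ⟨V, hV⟩).symm).toLinearMap)
    (fun W V hW hV h m => by
      change secRes L' h ((φ' ⟨V, hV⟩).symm (φ ⟨V, hV⟩ m)) = (φ' ⟨W, hW⟩).symm (φ ⟨W, hW⟩ (secRes L h m))
      rw [LinearEquiv.eq_symm_apply, phi_res hφ' ⟨V, hV⟩ ⟨W, hW⟩ h, LinearEquiv.apply_symm_apply,
        phi_res hφ ⟨V, hV⟩ ⟨W, hW⟩ h])
  haveI : IsIso ψ := DQPush.isIso_of_bijective_affine ψ fun W hW => by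
    rw [show (ψ.app W : Γ(L, W) → Γ(L', W)) = _ from funext fun m => hψ W hW m]
    exact ((φ ⟨W, hW⟩).trans (φ' ⟨W, hW⟩).symm).bijective
  exact ⟨asIso ψ⟩

/-- The structure sheaf is a zeroth exterior power. -/
theorem isExtPow_zero (E : X.Modules) : ExtPow.IsExtPow 0 E (Coh.structureModule X) := by
  refine ⟨fun U => (exteriorPower.zeroEquiv Γ(X, U.1) (E.val.obj (op U.1))).symm, fun U V h e => ?_⟩
  change (resO X h) (exteriorPower.zeroEquiv Γ(X, U.1) _ (exteriorPower.ιMulti _ 0 e)) =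
    exteriorPower.zeroEquiv Γ(X, V.1) _ (exteriorPower.ιMulti _ 0 _)
  rw [exteriorPower.zeroEquiv_ιMulti, exteriorPower.zeroEquiv_ιMulti]
  exact map_one _

/-- A module is its own first exterior power. -/
theorem isExtPow_one (E : X.Modules) : ExtPow.IsExtPow 1 E E := by
  refine ⟨fun U => (exteriorPower.oneEquiv (R := Γ(X, U.1)) (M := E.val.obj (op U.1))).symm, fun U V h e => ?_⟩
  simp only [LinearEquiv.symm_symm, exteriorPower.oneEquiv_ιMulti]

variable (X) in
/-- Vector bundles. -/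
abbrev Pvb : ObjectProperty X.Modules := fun M : X.Modules => FlatMod.IsFinLocFree M

/-- The class of a bundle. -/
abbrev cls (M : X.Modules) : SGA6.Kvb X := KZero.clSub (fun M : X.Modules => FlatMod.IsFinLocFree M) M

theorem cls_iso {A B : X.Modules} (e : A ≅ B) (hA : FlatMod.IsFinLocFree A) : cls A = cls B := by
  have hB : FlatMod.IsFinLocFree B := DQCoh.isFinLocFree_of_iso' e hA
  have hz : IsZero (cokernel e.hom) := isZero_cokernel_of_epi e.hom
  have h0 := DQCoh.isFinLocFree_of_isZero hz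
  have h1 : (ShortComplex.mk (0 : cokernel e.hom ⟶ cokernel e.hom) (0 : cokernel e.hom ⟶ cokernel e.hom)
      zero_comp).ShortExact :=
    { exact := ShortComplex.exact_of_isZero_X₂ _ hz
      mono_f := ⟨fun _ _ _ => hz.eq_of_tgt _ _⟩
      epi_g := ⟨fun _ _ _ => hz.eq_of_src _ _⟩ }
  have hc : cls (cokernel e.hom) = 0 :=
    left_eq_add.1 (K0Res.clSub_add (fun M : X.Modules => FlatMod.IsFinLocFree M) h1 h0 h0 h0)
  have h2 : (ShortComplex.mk e.hom (0 : B ⟶ cokernel e.hom) Limits.comp_zero).ShortExact :=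
    { exact := (ShortComplex.exact_iff_epi _ rfl).2 inferInstance
      mono_f := inferInstanceAs (Mono e.hom)
      epi_g := ⟨fun _ _ _ => hz.eq_of_src _ _⟩ }
  have h3 : cls B = cls A + cls (cokernel e.hom) :=
    K0Res.clSub_add (fun M : X.Modules => FlatMod.IsFinLocFree M) h2 hA hB h0
  rw [h3, hc, add_zero]

theorem isFinLocFree_tm {A B : X.Modules} (hA : FlatMod.IsFinLocFree A) (hB : FlatMod.IsFinLocFree B) :
    FlatMod.IsFinLocFree (CohB1.tensorMod A B) :=
  DerPerf.isFinLocFree_tensor hA hB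

/-- Tensoring with a bundle is exact on bundles. -/
theorem cls_tensor_add {E : X.Modules} (hE : FlatMod.IsFinLocFree E) {S : ShortComplex X.Modules}
    (hS : S.ShortExact) (h₁ : FlatMod.IsFinLocFree S.X₁) (h₂ : FlatMod.IsFinLocFree S.X₂)
    (h₃ : FlatMod.IsFinLocFree S.X₃) :
    cls (CohB1.tensorMod E S.X₂) = cls (CohB1.tensorMod E S.X₁) + cls (CohB1.tensorMod E S.X₃) := by
  let G : X.Opens → Prop := fun V => IsAffineOpen V ∧
    ∃ (U : X.Opens) (a : ℕ) (e : Fin a → Γ(E, U)), TMul.IsFrame e ∧ V ≤ U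
  have hG : IsBase G := fun U x hx => by
    obtain ⟨U₁, a, e, hx₁, he⟩ := TMul.exists_isFrame hE x
    obtain ⟨V, hV, hxV, hle⟩ := exists_isAffineOpen_mem_and_subset (X := X) (x := x) (U := U ⊓ U₁) ⟨hx, hx₁⟩
    have hle' : V ≤ U ⊓ U₁ := hle
    exact ⟨V, ⟨hV, U₁, a, e, he, hle'.trans inf_le_right⟩, hxV, hle'.trans inf_le_left⟩
  have hext : ∀ {A B : X.Modules} (f : A ⟶ B), ∃ g : CohB1.tensorMod E A ⟶ CohB1.tensorMod E B,
      ∀ (V : X.Opens), G V → ∀ (m : Γ(E, V)) (a : Γ(A, V)), g.app V (tm m a) = tm m (f.app V a) := by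
    intro A B f
    obtain ⟨g, hg⟩ := exists_bilHom (M := E) (N := A) (P := CohB1.tensorMod E B) hG
      (fun V _ => LinearMap.mk₂ _ (fun m a => tm m (f.app V a))
        (fun m m' a => TMul.tm_add m m' _) (fun r m a => TMul.smul_tm r m _)
        (fun m a a' => by rw [map_add, TMul.add_tm])
        (fun r m a => by rw [Scheme.Modules.Hom.app_smul, TMul.tm_smul]))
      (fun W V _ _ h m a => by simp only [LinearMap.mk₂_apply, TMul.res_tm, app_res])
    exact ⟨g, fun V hV m a => (hg V hV m a).trans rfl⟩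
  obtain ⟨f', hf'⟩ := hext S.f
  obtain ⟨g', hg'⟩ := hext S.g
  have hw : f' ≫ g' = 0 := hom_ext_base hG fun V hV m a => by
    change g'.app V (f'.app V (tm m a)) = _
    rw [hf' V hV, hg' V hV, show S.g.app V (S.f.app V a) = 0 from
      congrArg (fun χ : S.X₁ ⟶ S.X₃ => χ.app V a) S.zero, ← TMul.tt_tmul, TensorProduct.tmul_zero, map_zero]
    rfl
  haveI := hS.mono_f
  haveI := hS.epi_g
  have key : ∀ (V : X.Opens) (U : X.Opens) (a : ℕ) (e : Fin a → Γ(E, U)) (hle : V ≤ U) (hV : G V)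
      {A B : X.Modules} (f : A ⟶ B) (g : CohB1.tensorMod E A ⟶ CohB1.tensorMod E B),
      (∀ (V : X.Opens), G V → ∀ (m : Γ(E, V)) (a : Γ(A, V)), g.app V (tm m a) = tm m (f.app V a)) →
      ∀ c : Fin a → Γ(A, V), g.app V (∑ i, tm (res E hle (e i)) (c i)) =
        ∑ i, tm (res E hle (e i)) (f.app V (c i)) := fun V U a e hle hV A B f g hg c => by
    rw [map_sum]
    exact Finset.sum_congr rfl fun i _ => hg V hV _ _
  have hseq : (ShortComplex.mk f' g' hw).ShortExact := by
    refine shortExact_of_base hG _ (fun V hV => ?_) (fun V hV z => ?_) (fun V hV z hz => ?_)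
    · obtain ⟨U, a, e, he, hle⟩ := hV.2
      intro x y hxy
      obtain ⟨c, rfl⟩ := (he.tm_bijective V hle).2 x
      obtain ⟨d, rfl⟩ := (he.tm_bijective V hle).2 y
      change f'.app V _ = f'.app V _ at hxy
      rw [key V U a e hle hV S.f f' hf', key V U a e hle hV S.f f' hf'] at hxy
      have h := (he.tm_bijective V hle).1 hxy
      exact congrArg (fun c : Fin a → Γ(S.X₁, V) => ∑ i, tm (res E hle (e i)) (c i))
        (funext fun i => ZCl.injective_of_mono S.f V (congrFun h i))
    · obtain ⟨U, a, e, he, hle⟩ := hV.2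
      obtain ⟨d, rfl⟩ := (he.tm_bijective V hle).2 z
      choose c hc using fun i => QC.app_surjective_of_epi hV.1 (LocFree.isQCoh_of_isFinLocFree h₂)
        (LocFree.isQCoh_of_isFinLocFree h₃) S.g (d i)
      refine ⟨∑ i, tm (res E hle (e i)) (c i), ?_⟩
      change g'.app V _ = _
      rw [key V U a e hle hV S.g g' hg']
      simp only [hc]
    · obtain ⟨U, a, e, he, hle⟩ := hV.2
      obtain ⟨d, rfl⟩ := (he.tm_bijective V hle).2 z
      change g'.app V _ = 0 at hz
      rw [key V U a e hle hV S.g g' hg'] at hz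
      have h0 : (fun i => S.g.app V (d i)) = 0 := (he.tm_bijective V hle).1 (hz.trans (by
        symm
        refine Finset.sum_eq_zero fun i _ => ?_
        rw [Pi.zero_apply, ← TMul.tt_tmul, TensorProduct.tmul_zero, map_zero]))
      choose c hc using fun i => ker_le hS V (show d i ∈ LinearMap.ker (secMap S.g V) from congrFun h0 i)
      refine ⟨∑ i, tm (res E hle (e i)) (c i), ?_⟩
      change f'.app V _ = _
      rw [key V U a e hle hV S.f f' hf']
      exact Finset.sum_congr rfl fun i _ => congrArg _ (hc i)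
  exact K0Res.clSub_add (fun M : X.Modules => FlatMod.IsFinLocFree M) hseq
    (isFinLocFree_tm hE h₁) (isFinLocFree_tm hE h₂) (isFinLocFree_tm hE h₃)

/-- Homomorphisms out of the Grothendieck group of bundles. -/
def liftK {A : Type*} [AddCommGroup A] (f : Subtype (Pvb X) → A)
    (hf : ∀ (S : ShortComplex X.Modules) (h₁ : FlatMod.IsFinLocFree S.X₁) (h₂ : FlatMod.IsFinLocFree S.X₂)
      (h₃ : FlatMod.IsFinLocFree S.X₃), S.ShortExact → f ⟨S.X₂, h₂⟩ = f ⟨S.X₁, h₁⟩ + f ⟨S.X₃, h₃⟩) :
    SGA6.Kvb X →+ A :=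
  QuotientAddGroup.lift _ (FreeAbelianGroup.lift f) (by
    rw [KZero.relSub, AddSubgroup.closure_le]
    rintro x ⟨S, h₁, h₂, h₃, hS, rfl⟩
    rw [SetLike.mem_coe, AddMonoidHom.mem_ker, map_sub, map_sub, FreeAbelianGroup.lift_apply_of,
      FreeAbelianGroup.lift_apply_of, FreeAbelianGroup.lift_apply_of, hf S h₁ h₂ h₃ hS]
    abel)

theorem liftK_cls {A : Type*} [AddCommGroup A] (f : Subtype (Pvb X) → A) (hf) (M : X.Modules)
    (hM : FlatMod.IsFinLocFree M) : liftK f hf (cls M) = f ⟨M, hM⟩ := by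
  rw [cls, K0Res.clSub_eq _ hM]
  exact (QuotientAddGroup.lift_mk _ _ _).trans (FreeAbelianGroup.lift_apply_of _ _)

/-- Induction from classes of bundles. -/
theorem cls_induction {C : SGA6.Kvb X → Prop} (h0 : C 0) (hneg : ∀ x, C x → C (-x))
    (hadd : ∀ x y, C x → C y → C (x + y)) (hM : ∀ M, FlatMod.IsFinLocFree M → C (cls M)) (x : SGA6.Kvb X) :
    C x := by
  induction x using QuotientAddGroup.induction_on with
  | H z =>
    induction z using FreeAbelianGroup.induction_on with
    | zero => exact h0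
    | of m =>
      have h := hM m.1 m.2
      rwa [cls, K0Res.clSub_eq _ m.2] at h
    | neg m hm => exact hneg _ hm
    | add a b ha hb => exact hadd _ _ ha hb

theorem hom_ext_cls {A : Type*} [AddCommGroup A] {f g : SGA6.Kvb X →+ A}
    (h : ∀ M, FlatMod.IsFinLocFree M → f (cls M) = g (cls M)) : f = g :=
  AddMonoidHom.ext fun x => cls_induction (C := fun x => f x = g x) (by simp) (fun x hx => by simp [hx])
    (fun x y hx hy => by simp [hx, hy]) h x

variable (X) in
/-- The product of classes. -/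
def mulK : SGA6.Kvb X →+ SGA6.Kvb X →+ SGA6.Kvb X :=
  liftK (fun E => liftK (fun F => cls (CohB1.tensorMod E.1 F.1))
      fun S h₁ h₂ h₃ hS => cls_tensor_add E.2 hS h₁ h₂ h₃)
    fun S h₁ h₂ h₃ hS => hom_ext_cls fun F hF => by
      rw [AddMonoidHom.add_apply, liftK_cls _ _ F hF, liftK_cls _ _ F hF, liftK_cls _ _ F hF]
      change cls (CohB1.tensorMod S.X₂ F) = cls (CohB1.tensorMod S.X₁ F) + cls (CohB1.tensorMod S.X₃ F)
      rw [cls_iso (TMul.commIso S.X₂ F) (isFinLocFree_tm h₂ hF), cls_iso (TMul.commIso S.X₁ F) (isFinLocFree_tm h₁ hF),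
        cls_iso (TMul.commIso S.X₃ F) (isFinLocFree_tm h₃ hF)]
      exact cls_tensor_add hF hS h₁ h₂ h₃

theorem mulK_cls {E F : X.Modules} (hE : FlatMod.IsFinLocFree E) (hF : FlatMod.IsFinLocFree F) :
    mulK X (cls E) (cls F) = cls (CohB1.tensorMod E F) := by
  rw [mulK, liftK_cls _ _ E hE, liftK_cls _ _ F hF]

theorem mulK_comm (x y : SGA6.Kvb X) : mulK X x y = mulK X y x := by
  have h : mulK X = (mulK X).flip := hom_ext_cls fun E hE => hom_ext_cls fun F hF => by
    rw [AddMonoidHom.flip_apply, mulK_cls hE hF, mulK_cls hF hE]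
    exact cls_iso (TMul.commIso E F) (isFinLocFree_tm hE hF)
  exact (congrArg (fun m : SGA6.Kvb X →+ SGA6.Kvb X →+ SGA6.Kvb X => m x y) h).trans rfl

theorem mulK_assoc (x y z : SGA6.Kvb X) : mulK X (mulK X x y) z = mulK X x (mulK X y z) := by
  revert y z
  refine cls_induction (C := fun x => ∀ y z, mulK X (mulK X x y) z = mulK X x (mulK X y z)) ?_ ?_ ?_
    (fun E hE => ?_) x
  · intro y z; simp
  · intro x hx y z; simp [hx]
  · intro x y hx hy a b; simp [hx, hy]
  refine fun y => cls_induction (C := fun y => ∀ z, mulK X (mulK X (cls E) y) z = mulK X (cls E) (mulK X y z))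
    ?_ ?_ ?_ (fun F hF => ?_) y
  · intro z; simp
  · intro x hx z; simp [hx]
  · intro x y hx hy a; simp [hx, hy]
  refine fun z => cls_induction (C := fun z => mulK X (mulK X (cls E) (cls F)) z = mulK X (cls E) (mulK X (cls F) z))
    ?_ ?_ ?_ (fun G hG => ?_) z
  · simp
  · intro x hx; simp [hx]
  · intro x y hx hy; simp [hx, hy]
  rw [mulK_cls hE hF, mulK_cls hF hG, mulK_cls (isFinLocFree_tm hE hF) hG, mulK_cls hE (isFinLocFree_tm hF hG)]
  exact cls_iso (TMul.assocIso E F G) (isFinLocFree_tm (isFinLocFree_tm hE hF) hG)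

variable (X) in
/-- The class of the structure sheaf. -/
abbrev oneK : SGA6.Kvb X := cls (Coh.structureModule X)

theorem mulK_one (hO : FlatMod.IsFinLocFree (Coh.structureModule X)) (x : SGA6.Kvb X) :
    mulK X (oneK X) x = x := by
  refine cls_induction (C := fun x => mulK X (oneK X) x = x) (map_zero _) (fun x hx => by rw [map_neg, hx])
    (fun x y hx hy => by rw [map_add, hx, hy]) (fun M hM => ?_) x
  rw [oneK, mulK_cls hO hM]
  exact cls_iso (TMul.leftUnitIso M) (isFinLocFree_tm hO hM)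

theorem exists_lambda
    (hext : ∀ (i : ℕ) (E : X.Modules), FlatMod.IsFinLocFree E →
      ∃ L : X.Modules, FlatMod.IsFinLocFree L ∧ ExtPow.IsExtPow i E L) :
    ∃ lam : ℕ → SGA6.Kvb X → SGA6.Kvb X, SGA6.IsLambdaStructureVb X (mulK X) lam := by
  classical
  have hz : FlatMod.IsFinLocFree (0 : X.Modules) := DQCoh.isFinLocFree_of_isZero (isZero_zero _)
  have hO : FlatMod.IsFinLocFree (Coh.structureModule X) := by
    obtain ⟨L, hL, φ, hφ⟩ := hext 0 0 hz
    obtain ⟨φ', hφ'⟩ := isExtPow_zero (0 : X.Modules)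
    obtain ⟨e⟩ := nonempty_iso_of_phi (φ := φ) hφ (φ' := φ') hφ'
    exact DQCoh.isFinLocFree_of_iso' e hL
  choose Lam hLf φ hφ using hext
  have hcls : ∀ (i : ℕ) (E : X.Modules) (hE : FlatMod.IsFinLocFree E) (L : X.Modules),
      ExtPow.IsExtPow i E L → cls (Lam i E hE) = cls L := by
    rintro i E hE L ⟨φ', hφ'⟩
    obtain ⟨e⟩ := nonempty_iso_of_phi (φ := φ i E hE) (hφ i E hE) (φ' := φ') hφ'
    exact cls_iso e (hLf i E hE)
  let c : ℕ → Subtype (Pvb X) → SGA6.Kvb X := fun i E => cls (Lam i E.1 E.2)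
  letI : CommRing (SGA6.Kvb X) :=
    { (inferInstance : AddCommGroup (SGA6.Kvb X)) with
      mul := fun x y => mulK X x y
      one := oneK X
      left_distrib := fun x y z => map_add (mulK X x) y z
      right_distrib := fun x y z => congrArg (fun f : SGA6.Kvb X →+ SGA6.Kvb X => f z) (map_add (mulK X) x y)
      zero_mul := fun x => congrArg (fun f : SGA6.Kvb X →+ SGA6.Kvb X => f x) (map_zero (mulK X))
      mul_zero := fun x => map_zero (mulK X x)
      mul_assoc := mulK_assoc
      one_mul := mulK_one hO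
      mul_one := fun x => (mulK_comm x _).trans (mulK_one hO x)
      mul_comm := mulK_comm }
  have hc0 : ∀ E, c 0 E = 1 := fun E => hcls 0 E.1 E.2 _ (isExtPow_zero E.1)
  let ps : Subtype (Pvb X) → PowerSeries (SGA6.Kvb X) := fun E => PowerSeries.mk fun k => c k E
  have hu : ∀ E, IsUnit (ps E) := fun E => PowerSeries.isUnit_iff_constantCoeff.2 (by
    rw [← PowerSeries.coeff_zero_eq_constantCoeff_apply, PowerSeries.coeff_mk, hc0]
    exact isUnit_one)
  have hrel : ∀ (S : ShortComplex X.Modules) (h₁ : FlatMod.IsFinLocFree S.X₁) (h₂ : FlatMod.IsFinLocFree S.X₂)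
      (h₃ : FlatMod.IsFinLocFree S.X₃), S.ShortExact → ∀ k,
      c k ⟨S.X₂, h₂⟩ = ∑ i ∈ Finset.range (k + 1), c i ⟨S.X₁, h₁⟩ * c (k - i) ⟨S.X₃, h₃⟩ := by
    intro S h₁ h₂ h₃ hS k
    refine (clSub_main
      { L' := fun i => Lam i S.X₁ h₁, L := fun i => Lam i S.X₂ h₂, L'' := fun i => Lam i S.X₃ h₃
        φ' := fun i => φ i S.X₁ h₁, φ := fun i => φ i S.X₂ h₂, φ'' := fun i => φ i S.X₃ h₃
        hφ' := fun i => hφ i S.X₁ h₁, hφ := fun i => hφ i S.X₂ h₂, hφ'' := fun i => hφ i S.X₃ h₃
        hL' := fun i => hLf i S.X₁ h₁, hL := fun i => hLf i S.X₂ h₂, hL'' := fun i => hLf i S.X₃ h₃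
        hS := hS, h₁ := h₁, h₂ := h₂, h₃ := h₃ } k).trans (Finset.sum_congr rfl fun i _ => ?_)
    exact (mulK_cls (hLf i _ h₁) (hLf (k - i) _ h₃)).symm
  let lt : SGA6.Kvb X →+ Additive (PowerSeries (SGA6.Kvb X))ˣ := liftK (fun E => Additive.ofMul (hu E).unit)
    fun S h₁ h₂ h₃ hS => Additive.toMul.injective (Units.ext (by
      change ps ⟨S.X₂, h₂⟩ = ps ⟨S.X₁, h₁⟩ * ps ⟨S.X₃, h₃⟩
      ext k
      rw [PowerSeries.coeff_mul, Finset.Nat.sum_antidiagonal_eq_sum_range_succ_mk]
      simp only [ps, PowerSeries.coeff_mk]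
      exact hrel S h₁ h₂ h₃ hS k))
  let lam : ℕ → SGA6.Kvb X → SGA6.Kvb X := fun k x => PowerSeries.coeff k ((Additive.toMul (lt x)).val)
  have hlam : ∀ k (E : X.Modules) (hE : FlatMod.IsFinLocFree E), lam k (cls E) = c k ⟨E, hE⟩ := fun k E hE => by
    simp only [lam, lt, liftK_cls _ _ E hE, toMul_ofMul, IsUnit.unit_spec]
    exact PowerSeries.coeff_mk k _
  have hsum : ∀ k x y, lam k (x + y) = ∑ i ∈ Finset.range (k + 1), lam i x * lam (k - i) y := fun k x y => by
    change PowerSeries.coeff k ((Additive.toMul (lt (x + y))).val) = _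
    rw [map_add, toMul_add, Units.val_mul, PowerSeries.coeff_mul, Finset.Nat.sum_antidiagonal_eq_sum_range_succ_mk]
  have h00 : lam 0 0 = 1 ∧ lam 1 0 = 0 := by
    constructor
    · simp [lam, lt]
    · simp [lam, lt, PowerSeries.coeff_one]
  have hl0 : ∀ x, lam 0 x = 1 := by
    refine fun x => cls_induction (C := fun x => lam 0 x = 1) h00.1 (fun x hx => ?_) (fun x y hx hy => ?_)
      (fun M hM => (hlam 0 M hM).trans (hc0 _)) x
    · have h := hsum 0 x (-x)
      rw [add_neg_cancel, h00.1, Finset.sum_range_one, hx, one_mul] at h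
      exact h.symm
    · rw [hsum, Finset.sum_range_one, hx, hy, one_mul]
  have hl1add : ∀ x y, lam 1 (x + y) = lam 1 x + lam 1 y := fun x y => by
    rw [hsum, Finset.sum_range_succ, Finset.sum_range_one, hl0, hl0, one_mul, mul_one, add_comm]
  have hl1 : ∀ x, lam 1 x = x := fun x => cls_induction (C := fun x => lam 1 x = x) h00.2
    (fun x hx => by
      have h := hl1add x (-x)
      rw [add_neg_cancel, h00.2, hx] at h
      exact (neg_eq_of_add_eq_zero_right h.symm).symm)
    (fun x y hx hy => by rw [hl1add, hx, hy])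
    (fun M hM => (hlam 1 M hM).trans (hcls 1 M hM _ (isExtPow_one M))) x
  refine ⟨lam, mulK_comm, mulK_assoc, mulK_one hO, fun E F hE hF => mulK_cls hE hF,
    fun i E L hE hL => (hlam i E hE).trans (hcls i E hE L hL), hl0, hl1, hsum⟩

end Groth.Agent.SGA6Ext
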