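import Groth.Agent.TMul.Assoc
import Groth.Agent.QC.Closure
import Groth.Agent.ZCl.Basic
import Groth.Agent.QC.IdealMod

/-!
Morphisms out of tensor products from bilinear maps on a basis of opens; checking on a basis.
-/

set_option autoImplicit false
set_option backward.isDefEq.respectTransparency false
set_option backward.isDefEq.respectTransparency.types false
set_option linter.style.haveILetI false

universe u

open CategoryTheory CategoryTheory.Limits AlgebraicGeometry TopologicalSpace Opposite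
open Groth.Agent.QC (res resO res_res res_self res_smul app_res section_eq_of_locally)
open TMul (tm)

noncomputable section

namespace Groth.Agent.SGA6Ext

variable {X : Scheme.{u}} {M N P : X.Modules}

/-- A basis of opens. -/
def IsBase (G : X.Opens → Prop) : Prop :=
  ∀ (U : X.Opens) (x : X), x ∈ U → ∃ V : X.Opens, G V ∧ x ∈ V ∧ V ≤ U

variable {G : X.Opens → Prop}

theorem ext_base (hG : IsBase G) {U : X.Opens} {s t : Γ(M, U)}
    (h : ∀ (V : X.Opens) (hV : V ≤ U), G V → res M hV s = res M hV t) : s = t :=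
  section_eq_of_locally fun x hx => by
    obtain ⟨V, hV, hxV, hVU⟩ := hG U x hx
    exact ⟨V, hVU, hxV, h V hVU hV⟩

theorem glue_base (hG : IsBase G) (U : X.Opens) (s : ∀ (V : X.Opens), G V → V ≤ U → Γ(M, V))
    (hs : ∀ (W V : X.Opens) (hW : G W) (hV : G V) (h : W ≤ V) (hVU : V ≤ U),
      res M h (s V hV hVU) = s W hW (h.trans hVU)) :
    ∃ t : Γ(M, U), ∀ (V : X.Opens) (hV : G V) (hVU : V ≤ U), res M hVU t = s V hV hVU := by
  obtain ⟨t, ht⟩ := ZCl.glue M (V := U) (fun V : {V : X.Opens // G V ∧ V ≤ U} => V.1) (fun V => V.2.2)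
    (fun x hx => by
      obtain ⟨V, hV, hxV, hVU⟩ := hG U x hx
      exact ⟨⟨V, hV, hVU⟩, hxV⟩)
    (fun V => s V.1 V.2.1 V.2.2) (fun V W => ext_base hG fun T hT hTG => by
      change res M hT (res M inf_le_left (s V.1 V.2.1 V.2.2)) = res M hT (res M inf_le_right (s W.1 W.2.1 W.2.2))
      rw [res_res, res_res, hs T V.1 hTG, hs T W.1 hTG])
  exact ⟨t, fun V hV hVU => ht ⟨V, hV, hVU⟩⟩

/-- Compatible bilinear maps on a basis give a morphism out of the tensor product. -/
theorem exists_bilHom (hG : IsBase G)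
    (B : ∀ V : X.Opens, G V → Γ(M, V) →ₗ[Γ(X, V)] Γ(N, V) →ₗ[Γ(X, V)] Γ(P, V))
    (hB : ∀ (W V : X.Opens) (hW : G W) (hV : G V) (h : W ≤ V) (m : Γ(M, V)) (n : Γ(N, V)),
      res P h (B V hV m n) = B W hW (res M h m) (res N h n)) :
    ∃ φ : CohB1.tensorMod M N ⟶ P,
      ∀ (V : X.Opens) (hV : G V) (m : Γ(M, V)) (n : Γ(N, V)), φ.app V (tm m n) = B V hV m n := by
  classical
  have hex : ∀ (U : X.Opens) (m : Γ(M, U)) (n : Γ(N, U)), ∃ t : Γ(P, U),
      ∀ (V : X.Opens) (hV : G V) (hVU : V ≤ U), res P hVU t = B V hV (res M hVU m) (res N hVU n) :=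
    fun U m n => glue_base hG U (fun V hV hVU => B V hV (res M hVU m) (res N hVU n)) fun W V hW hV h hVU => by
      rw [hB W V hW hV h, res_res, res_res]
  choose b hb using hex
  let Bf : ∀ U : X.Opens, Γ(M, U) →ₗ[Γ(X, U)] Γ(N, U) →ₗ[Γ(X, U)] Γ(P, U) := fun U =>
    LinearMap.mk₂ _ (b U)
      (fun m m' n => ext_base hG fun V hVU hV => by
        simp only [map_add, hb U _ _ V hV hVU, LinearMap.add_apply])
      (fun r m n => ext_base hG fun V hVU hV => by
        simp only [res_smul, map_smul, hb U _ _ V hV hVU, LinearMap.smul_apply])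
      (fun m n n' => ext_base hG fun V hVU hV => by
        simp only [map_add, hb U _ _ V hV hVU])
      (fun r m n => ext_base hG fun V hVU hV => by
        simp only [res_smul, map_smul, hb U _ _ V hV hVU])
  have hBf : ∀ {V U : X.Opens} (h : V ≤ U) (m : Γ(M, U)) (n : Γ(N, U)),
      res P h (Bf U m n) = Bf V (res M h m) (res N h n) := fun {V U} h m n => ext_base hG fun W hW hWG => by
    change res P hW (res P h (b U m n)) = res P hW (b V (res M h m) (res N h n))
    rw [res_res, hb U _ _ W hWG, hb V _ _ W hWG, res_res, res_res]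
  refine ⟨TMul.lift Bf hBf, fun V hV m n => ?_⟩
  rw [TMul.lift_tm]
  have h := hb V m n V hV le_rfl
  rwa [res_self, res_self, res_self] at h

/-- Morphisms out of tensor products agree if they agree on a basis. -/
theorem hom_ext_base (hG : IsBase G) {φ ψ : CohB1.tensorMod M N ⟶ P}
    (h : ∀ (V : X.Opens), G V → ∀ (m : Γ(M, V)) (n : Γ(N, V)), φ.app V (tm m n) = ψ.app V (tm m n)) :
    φ = ψ :=
  TMul.hom_ext fun U m n => ext_base hG fun V hVU hV => by
    rw [app_res, app_res, TMul.res_tm, h V hV]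

theorem mono_of_base (hG : IsBase G) (φ : M ⟶ N) (h : ∀ V, G V → Function.Injective (φ.app V)) : Mono φ :=
  ZCl.mono_of_injective φ fun U s t hst => ext_base hG fun V hVU hV => h V hV (by
    rw [← app_res, ← app_res, hst])

theorem epi_of_base (hG : IsBase G) (φ : M ⟶ N) (h : ∀ V, G V → Function.Surjective (φ.app V)) : Epi φ :=
  ⟨fun {Z} a b hab => Scheme.Modules.hom_ext _ _ fun U => by
    ext t
    refine ext_base hG fun V hVU hV => ?_
    rw [app_res, app_res]
    obtain ⟨s, hs⟩ := h V hV (res N hVU t)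
    rw [← hs]
    exact congrArg (fun χ : M ⟶ Z => χ.app V s) hab⟩

/-- Exactness on a basis gives exactness. -/
theorem shortExact_of_base (hG : IsBase G) (S : ShortComplex X.Modules)
    (hf : ∀ V, G V → Function.Injective (S.f.app V)) (hg : ∀ V, G V → Function.Surjective (S.g.app V))
    (he : ∀ V, G V → ∀ t, S.g.app V t = 0 → ∃ s, S.f.app V s = t) : S.ShortExact := by
  haveI := mono_of_base hG S.f hf
  haveI := epi_of_base hG S.g hg
  refine ShortComplex.ShortExact.mk' ?_ inferInstance inferInstance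
  rw [S.exact_iff_kernel_ι_comp_cokernel_π_zero]
  refine Scheme.Modules.hom_ext _ _ fun U => ?_
  ext t
  refine ext_base hG fun V hVU hV => ?_
  rw [app_res, app_res]
  let t' := res (kernel S.g) hVU t
  obtain ⟨s, hs⟩ := he V hV ((kernel.ι S.g).app V t') ((Groth.Agent.QC.mem_range_kernel_app S.g V _).1 ⟨t', rfl⟩)
  show (cokernel.π S.f).app V ((kernel.ι S.g).app V t') = _
  rw [← hs]
  exact congrArg (fun χ : S.X₁ ⟶ cokernel S.f => χ.app V s) (cokernel.condition S.f)

/-- Kernel of a cokernel projection on an affine open. -/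
theorem exists_of_cokernel_π_eq_zero {U : X.Opens} (hU : IsAffineOpen U) (hM : Coh.IsQCoh M)
    (hN : Coh.IsQCoh N) (φ : M ⟶ N) (t : Γ(N, U)) (ht : (cokernel.π φ).app U t = 0) :
    ∃ s, φ.app U s = t := by
  obtain ⟨t', ht'⟩ := (Groth.Agent.QC.mem_range_kernel_app (cokernel.π φ) U t).2 ht
  obtain ⟨s, hs⟩ := QC.app_surjective_of_epi hU hM (QC.isQCoh_image hM hN φ) (Abelian.factorThruImage φ) t'
  refine ⟨s, ?_⟩
  rw [← ht', ← hs]
  exact congrArg (fun χ : M ⟶ N => χ.app U s) (Abelian.image.fac φ).symm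

end Groth.Agent.SGA6Ext
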