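import Groth.Agent.SGA6Ext.Semi
import Groth.Agent.SGA6Ext.Basis
import Groth.Agent.TMul.Frame
import Groth.Agent.PBundle.FrameTools
import Groth.Agent.DQCoh.Tensor
import Groth.Agent.DerPerf.Tensor
import Groth.Agent.VBTwo.Ext
import Groth.Agent.K0Res.Main
import Groth.Agent.DQCoh.PCCalc
import Groth.Agent.QC.Coherent
import Groth.Prelude.Def_SGA6

/-!
The class of an exterior power of an extension of vector bundles.
-/

set_option autoImplicit false
set_option backward.isDefEq.respectTransparency false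
set_option backward.isDefEq.respectTransparency.types false
set_option linter.style.haveILetI false
set_option linter.unusedSectionVars false
set_option maxHeartbeats 1000000

universe u

open CategoryTheory CategoryTheory.Limits AlgebraicGeometry TopologicalSpace Opposite
open Groth.Agent.QC (res resO res_res res_self res_smul app_res)
open TMul (tm)
open scoped TensorProduct

noncomputable section

namespace Groth.Agent.SGA6Ext

variable {X : Scheme.{u}}

/-- Sections, as a module over the ring of functions. -/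
abbrev Sec (E : X.Modules) (V : X.Opens) : Type u := E.val.obj (op V)

/-- A morphism on sections. -/
def secMap {E F : X.Modules} (g : E ⟶ F) (V : X.Opens) : Sec E V →ₗ[Γ(X, V)] Sec F V where
  toFun m := (g.app V).hom m
  map_add' a b := map_add (g.app V).hom a b
  map_smul' r a := Scheme.Modules.Hom.app_smul g r a

/-- Restriction on sections. -/
def secRes (E : X.Modules) {V U : X.Opens} (h : V ≤ U) : Sec E U →+ Sec E V where
  toFun m := res E h m
  map_zero' := map_zero (res E h)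
  map_add' a b := map_add (res E h) a b

theorem secRes_smul (E : X.Modules) {V U : X.Opens} (h : V ≤ U) (r : Γ(X, U)) (m : Sec E U) :
    secRes E h (r • m) = resO X h r • secRes E h m :=
  res_smul E h r m

/-- The affine local identifications of an exterior power. -/
def Phi (k : ℕ) (E L : X.Modules) : Type u :=
  ∀ V : X.affineOpens, Sec L V.1 ≃ₗ[Γ(X, V.1)] ↥(⋀[Γ(X, V.1)]^k (Sec E V.1))

/-- Their compatibility. -/
def PhiCompat {k : ℕ} {E L : X.Modules} (φ : Phi k E L) : Prop :=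
  ∀ (U V : X.affineOpens) (h : V.1 ≤ U.1) (e : Fin k → Sec E U.1),
    secRes L h ((φ U).symm (exteriorPower.ιMulti _ k e)) =
      (φ V).symm (exteriorPower.ιMulti _ k (fun j => secRes E h (e j)))

theorem phi_res {k : ℕ} {E L : X.Modules} {φ : Phi k E L} (hφ : PhiCompat φ) (U V : X.affineOpens)
    (h : V.1 ≤ U.1) (x : Sec L U.1) :
    φ V (secRes L h x) = extS (resO X h) (secRes E h) (secRes_smul E h) k (φ U x) := by
  obtain ⟨z, rfl⟩ := (φ U).symm.surjective x
  rw [LinearEquiv.apply_symm_apply]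
  have hz : z ∈ Submodule.span Γ(X, U.1) (Set.range (exteriorPower.ιMulti Γ(X, U.1) k)) := by
    rw [exteriorPower.ιMulti_span]; trivial
  induction hz using Submodule.span_induction with
  | zero => simp only [map_zero]
  | add a b _ _ ha hb => simp only [map_add, ha, hb]
  | smul r a _ ha => rw [map_smul, secRes_smul, map_smul, ha, extS_smul]
  | mem a ha =>
    obtain ⟨e, rfl⟩ := ha
    rw [hφ U V h e, LinearEquiv.apply_symm_apply, extS_ιMulti]

variable (S : ShortComplex X.Modules)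

/-- Affine opens on which the outer terms are free. -/
def Good (V : X.Opens) : Prop :=
  IsAffineOpen V ∧
    (∃ (U : X.Opens) (a : ℕ) (e : Fin a → Γ(S.X₁, U)), TMul.IsFrame e ∧ V ≤ U) ∧
    (∃ (U : X.Opens) (c : ℕ) (e : Fin c → Γ(S.X₃, U)), TMul.IsFrame e ∧ V ≤ U)

theorem isBase_good (h₁ : FlatMod.IsFinLocFree S.X₁) (h₃ : FlatMod.IsFinLocFree S.X₃) : IsBase (Good S) :=
  fun U x hx => by
    obtain ⟨U₁, a, e, hx₁, he⟩ := TMul.exists_isFrame h₁ x
    obtain ⟨U₃, c, g, hx₃, hg⟩ := TMul.exists_isFrame h₃ x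
    obtain ⟨V, hV, hxV, hle⟩ := exists_isAffineOpen_mem_and_subset (X := X) (x := x) (U := U ⊓ (U₁ ⊓ U₃))
      ⟨hx, hx₁, hx₃⟩
    have hle' : V ≤ U ⊓ (U₁ ⊓ U₃) := hle
    exact ⟨V, ⟨hV, ⟨U₁, a, e, he, hle'.trans (inf_le_right.trans inf_le_left)⟩,
      ⟨U₃, c, g, hg, hle'.trans (inf_le_right.trans inf_le_right)⟩⟩, hxV, hle'.trans inf_le_left⟩

variable {S} {V : X.Opens}

theorem Good.aff (hV : Good S V) : IsAffineOpen V := hV.1

/-- The affine open of a good open. -/
abbrev Good.open' (hV : Good S V) : X.affineOpens := ⟨V, hV.1⟩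

theorem Good.free₁ (hV : Good S V) : Module.Free Γ(X, V) (Sec S.X₁ V) ∧ Module.Finite Γ(X, V) (Sec S.X₁ V) := by
  obtain ⟨U, a, e, he, hle⟩ := hV.2.1
  exact ⟨Module.Free.of_equiv (he.equiv hle), Module.Finite.equiv (he.equiv hle)⟩

theorem Good.free₃ (hV : Good S V) : Module.Free Γ(X, V) (Sec S.X₃ V) ∧ Module.Finite Γ(X, V) (Sec S.X₃ V) := by
  obtain ⟨U, c, e, he, hle⟩ := hV.2.2
  exact ⟨Module.Free.of_equiv (he.equiv hle), Module.Finite.equiv (he.equiv hle)⟩

section Seq

variable (hS : S.ShortExact) (h₂ : FlatMod.IsFinLocFree S.X₂) (h₃ : FlatMod.IsFinLocFree S.X₃)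
include hS

theorem comp_zero (V : X.Opens) : secMap S.g V ∘ₗ secMap S.f V = 0 :=
  LinearMap.ext fun m => congrArg (fun χ : S.X₁ ⟶ S.X₃ => χ.app V m) S.zero

theorem injective_f (V : X.Opens) : Function.Injective (secMap S.f V) :=
  haveI := hS.mono_f
  ZCl.injective_of_mono S.f V

theorem ker_le (V : X.Opens) : LinearMap.ker (secMap S.g V) ≤ LinearMap.range (secMap S.f V) := fun t ht => by
  haveI := hS.mono_f
  obtain ⟨t', rfl⟩ := (Groth.Agent.QC.mem_range_kernel_app S.g V t).2 ht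
  refine ⟨(hS.exact.lift (kernel.ι S.g) (kernel.condition _)).app V t', ?_⟩
  exact congrArg (fun χ : kernel S.g ⟶ S.X₂ => χ.app V t') (hS.exact.lift_f _ _)

include h₂ h₃

theorem exists_section (hV : Good S V) :
    ∃ s : Sec S.X₃ V →ₗ[Γ(X, V)] Sec S.X₂ V, secMap S.g V ∘ₗ s = LinearMap.id := by
  haveI := hS.epi_g
  haveI := hV.free₃.1
  haveI : Module.Projective Γ(X, V) (Sec S.X₃ V) := Module.Projective.of_free
  exact Module.projective_lifting_property (secMap S.g V) LinearMap.id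
    (QC.app_surjective_of_epi hV.1 (LocFree.isQCoh_of_isFinLocFree h₂) (LocFree.isQCoh_of_isFinLocFree h₃) S.g)

end Seq

variable (S) in
/-- Exterior powers of the terms of the sequence, with all their data. -/
structure Sys where
  /-- powers of the first term -/
  L' : ℕ → X.Modules
  /-- powers of the middle term -/
  L : ℕ → X.Modules
  /-- powers of the last term -/
  L'' : ℕ → X.Modules
  /-- identifications -/
  φ' : ∀ k, Phi k S.X₁ (L' k)
  /-- identifications -/
  φ : ∀ k, Phi k S.X₂ (L k)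
  /-- identifications -/
  φ'' : ∀ k, Phi k S.X₃ (L'' k)
  hφ' : ∀ k, PhiCompat (φ' k)
  hφ : ∀ k, PhiCompat (φ k)
  hφ'' : ∀ k, PhiCompat (φ'' k)
  hL' : ∀ k, FlatMod.IsFinLocFree (L' k)
  hL : ∀ k, FlatMod.IsFinLocFree (L k)
  hL'' : ∀ k, FlatMod.IsFinLocFree (L'' k)
  hS : S.ShortExact
  h₁ : FlatMod.IsFinLocFree S.X₁
  h₂ : FlatMod.IsFinLocFree S.X₂
  h₃ : FlatMod.IsFinLocFree S.X₃

variable (D : Sys S) (n p : ℕ)

theorem Sys.base (D : Sys S) : IsBase (Good S) := isBase_good S D.h₁ D.h₃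

theorem wedge_res {W V : X.Opens} (hW : Good S W) (hV : Good S V) (h : W ≤ V) (m : Sec (D.L' p) V)
    (b : Sec (D.L (n - p)) V) :
    secRes (D.L n) h ((D.φ n hV.open').symm
      (wedge (secMap S.f V) p n (D.φ' p hV.open' m) (D.φ (n - p) hV.open' b))) =
    (D.φ n hW.open').symm (wedge (secMap S.f W) p n (D.φ' p hW.open' (secRes (D.L' p) h m))
      (D.φ (n - p) hW.open' (secRes (D.L (n - p)) h b))) := by
  rw [LinearEquiv.eq_symm_apply, phi_res (D.hφ n) hV.open' hW.open' h, LinearEquiv.apply_symm_apply,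
    phi_res (D.hφ' p) hV.open' hW.open' h, phi_res (D.hφ (n - p)) hV.open' hW.open' h]
  rcases Nat.lt_or_ge n p with hnp | hnp
  · simp [wedge_of_lt _ hnp]
  exact extS_wedge _ (secRes_smul S.X₂ h) _ (secRes_smul S.X₁ h) _ (secMap S.f W)
    (fun m => app_res S.f h m) hnp _ _

theorem exists_psi : ∃ ψ : CohB1.tensorMod (D.L' p) (D.L (n - p)) ⟶ D.L n,
    ∀ (V : X.Opens) (hV : Good S V) (m : Sec (D.L' p) V) (b : Sec (D.L (n - p)) V),
      ψ.app V (tm m b) = (D.φ n hV.open').symm
        (wedge (secMap S.f V) p n (D.φ' p hV.open' m) (D.φ (n - p) hV.open' b)) := by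
  obtain ⟨ψ, hψ⟩ := exists_bilHom (M := D.L' p) (N := D.L (n - p)) (P := D.L n) D.base
    (fun V hV => ((wedge (secMap S.f V) p n).compl₁₂ (D.φ' p hV.open').toLinearMap
      (D.φ (n - p) hV.open').toLinearMap).compr₂ (D.φ n hV.open').symm.toLinearMap)
    (fun W V hW hV h m b => wedge_res D n p hW hV h m b)
  exact ⟨ψ, hψ⟩

/-- The product `L'_p ⊗ L_(n-p) → L_n`. -/
def psi : CohB1.tensorMod (D.L' p) (D.L (n - p)) ⟶ D.L n := (exists_psi D n p).choose

/-- The quotient by the `p`-th step. -/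
abbrev Q : X.Modules := cokernel (psi D n p)

/-- The quotient map. -/
abbrev prj : D.L n ⟶ Q D n p := cokernel.π (psi D n p)

theorem psi_tm {V : X.Opens} (hV : Good S V) (m : Sec (D.L' p) V) (b : Sec (D.L (n - p)) V) :
    (psi D n p).app V (tm m b) = (D.φ n hV.open').symm
      (wedge (secMap S.f V) p n (D.φ' p hV.open' m) (D.φ (n - p) hV.open' b)) :=
  (exists_psi D n p).choose_spec V hV m b

theorem prj_eq_zero {V : X.Opens} (hV : Good S V) {w : ↥(⋀[Γ(X, V)]^n (Sec S.X₂ V))}
    (hw : w ∈ F (secMap S.f V) p n) : secMap (prj D n p) V ((D.φ n hV.open').symm w) = 0 := by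
  obtain ⟨t, rfl⟩ := hw
  induction t using TensorProduct.induction_on with
  | zero => simp only [map_zero]
  | add a b ha hb => simp only [map_add, ha, hb, add_zero]
  | tmul a b =>
    have h := psi_tm D n p hV ((D.φ' p hV.open').symm a) ((D.φ (n - p) hV.open').symm b)
    rw [LinearEquiv.apply_symm_apply, LinearEquiv.apply_symm_apply] at h
    rw [TensorProduct.lift.tmul, ← h]
    exact congrArg (fun χ : _ ⟶ Q D n p => χ.app V (tm ((D.φ' p hV.open').symm a)
      ((D.φ (n - p) hV.open').symm b))) (cokernel.condition (psi D n p))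

/-- Sections of tensor products with a power of the first term are sums of tensors. -/
theorem tens_induction {N : X.Modules} {V : X.Opens} (hV : Good S V)
    (C : Γ(CohB1.tensorMod (D.L' p) N, V) → Prop) (h0 : C 0) (hadd : ∀ a b, C a → C b → C (a + b))
    (htm : ∀ (m : Γ(D.L' p, V)) (b : Γ(N, V)), C (tm m b)) (s : Γ(CohB1.tensorMod (D.L' p) N, V)) : C s := by
  classical
  haveI := hV.free₁.1
  haveI := hV.free₁.2
  haveI : Module.Free Γ(X, V) (Sec (D.L' p) V) := Module.Free.of_equiv (D.φ' p hV.open').symm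
  haveI : Module.Finite Γ(X, V) (Sec (D.L' p) V) := Module.Finite.equiv (D.φ' p hV.open').symm
  let b := (Module.Free.chooseBasis Γ(X, V) (Sec (D.L' p) V)).reindex
    (Fintype.equivFin (Module.Free.ChooseBasisIndex Γ(X, V) (Sec (D.L' p) V)))
  have hb : TMul.IsFrame (N := D.L' p) (U := V) fun k => (b k : Γ(D.L' p, V)) :=
    Groth.Agent.PBundle.isFrame_of_bijective (LocFree.isQCoh_of_isFinLocFree (D.hL' p)) hV.1 (by
      rw [show (fun a => ∑ k, a k • (b k : Γ(D.L' p, V))) = b.equivFun.symm from funext fun a =>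
        (Module.Basis.equivFun_symm_apply b a).symm]
      exact b.equivFun.symm.bijective)
  obtain ⟨m, rfl⟩ := (hb.tm_bijective (M := N) V le_rfl).2 s
  exact Finset.sum_induction _ C hadd h0 fun k _ => htm _ _

theorem psi_mem {V : X.Opens} (hV : Good S V) (s : Sec (CohB1.tensorMod (D.L' p) (D.L (n - p))) V) :
    D.φ n hV.open' (secMap (psi D n p) V s) ∈ F (secMap S.f V) p n := by
  refine tens_induction D p hV (fun s => D.φ n hV.open' (secMap (psi D n p) V s) ∈ F (secMap S.f V) p n)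
    ?_ ?_ ?_ s
  · show D.φ n hV.open' (secMap (psi D n p) V (0 : Sec _ V)) ∈ _
    rw [map_zero, map_zero]; exact zero_mem _
  · intro a b ha hb
    have e : D.φ n hV.open' (secMap (psi D n p) V (a + b : Sec _ V)) =
        D.φ n hV.open' (secMap (psi D n p) V a) + D.φ n hV.open' (secMap (psi D n p) V b) := by
      rw [← map_add, ← map_add]
    exact e ▸ add_mem ha hb
  · intro m b
    show D.φ n hV.open' ((psi D n p).app V (tm m b)) ∈ _
    rw [psi_tm D n p hV, LinearEquiv.apply_symm_apply]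
    exact wedge_mem _ _ _ _ _

theorem isQCoh_psi : Coh.IsQCoh (CohB1.tensorMod (D.L' p) (D.L (n - p))) :=
  DQCoh.isQCoh_tensor (LocFree.isQCoh_of_isFinLocFree (D.hL' p)) (LocFree.isQCoh_of_isFinLocFree (D.hL _))

theorem prj_eq_zero_iff {V : X.Opens} (hV : Good S V) (x : Sec (D.L n) V) :
    secMap (prj D n p) V x = 0 ↔ D.φ n hV.open' x ∈ F (secMap S.f V) p n := by
  refine ⟨fun h => ?_, fun h => by simpa using prj_eq_zero D n p hV h⟩
  obtain ⟨s, hs⟩ := exists_of_cokernel_π_eq_zero hV.1 (isQCoh_psi D n p)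
    (LocFree.isQCoh_of_isFinLocFree (D.hL n)) (psi D n p) x h
  exact hs ▸ psi_mem D n p hV s

theorem prj_surjective {V : X.Opens} (hV : Good S V) : Function.Surjective (secMap (prj D n p) V) :=
  QC.app_surjective_of_epi hV.1 (LocFree.isQCoh_of_isFinLocFree (D.hL n))
    (QC.isQCoh_cokernel (isQCoh_psi D n p) (LocFree.isQCoh_of_isFinLocFree (D.hL n)) _) (prj D n p)

/-- A chosen section over a good open. -/
def sct {V : X.Opens} (hV : Good S V) : Sec S.X₃ V →ₗ[Γ(X, V)] Sec S.X₂ V :=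
  (exists_section D.hS D.h₂ D.h₃ hV).choose

theorem g_sct {V : X.Opens} (hV : Good S V) : secMap S.g V ∘ₗ sct D hV = LinearMap.id :=
  (exists_section D.hS D.h₂ D.h₃ hV).choose_spec

/-- The lift of `a ⊗ y` to the middle power. -/
def gammaPre {V : X.Opens} (hV : Good S V) :
    ↥(⋀[Γ(X, V)]^p (Sec S.X₁ V)) ⊗[Γ(X, V)] ↥(⋀[Γ(X, V)]^(n - p) (Sec S.X₃ V)) →ₗ[Γ(X, V)]
      ↥(⋀[Γ(X, V)]^n (Sec S.X₂ V)) :=
  (TensorProduct.lift (wedge (secMap S.f V) p n)).comp
    (LinearMap.lTensor _ (exteriorPower.map (n - p) (sct D hV)))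

theorem gammaPre_tmul {V : X.Opens} (hV : Good S V) (a : ↥(⋀[Γ(X, V)]^p (Sec S.X₁ V)))
    (y : ↥(⋀[Γ(X, V)]^(n - p) (Sec S.X₃ V))) :
    gammaPre D n p hV (a ⊗ₜ y) = wedge (secMap S.f V) p n a (exteriorPower.map (n - p) (sct D hV) y) := by
  rw [gammaPre, LinearMap.comp_apply, LinearMap.lTensor_tmul, TensorProduct.lift.tmul]

theorem map_g_sct {V : X.Opens} (hV : Good S V) (k : ℕ) (y : ↥(⋀[Γ(X, V)]^k (Sec S.X₃ V))) :
    exteriorPower.map k (secMap S.g V) (exteriorPower.map k (sct D hV) y) = y := by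
  rw [← LinearMap.comp_apply, ← exteriorPower.map_comp, g_sct D hV, exteriorPower.map_id, LinearMap.id_apply]

set_option maxHeartbeats 4000000 in
theorem gamma_res {W V : X.Opens} (hW : Good S W) (hV : Good S V) (h : W ≤ V) (m : Sec (D.L' p) V)
    (y : Sec (D.L'' (n - p)) V) :
    secMap (prj D n (p + 1)) W (secRes (D.L n) h ((D.φ n hV.open').symm
      (gammaPre D n p hV (D.φ' p hV.open' m ⊗ₜ D.φ'' (n - p) hV.open' y)))) =
    secMap (prj D n (p + 1)) W ((D.φ n hW.open').symm
      (gammaPre D n p hW (D.φ' p hW.open' (secRes (D.L' p) h m) ⊗ₜ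
        D.φ'' (n - p) hW.open' (secRes (D.L'' (n - p)) h y)))) := by
  rw [← sub_eq_zero]
  refine (map_sub (secMap (prj D n (p + 1)) W) _ _).symm.trans ((prj_eq_zero_iff D n (p + 1) hW _).2 ?_)
  rw [map_sub, phi_res (D.hφ n) hV.open' hW.open' h, LinearEquiv.apply_symm_apply, LinearEquiv.apply_symm_apply,
    gammaPre_tmul, gammaPre_tmul, phi_res (D.hφ' p) hV.open' hW.open' h]
  rcases Nat.lt_or_ge n p with hnp | hnp
  · simp [wedge_of_lt _ hnp]
  rw [extS_wedge (i := secMap S.f V) _ (secRes_smul S.X₂ h) _ (secRes_smul S.X₁ h) (secMap S.f W)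
    (fun m => app_res S.f h m) hnp]
  refine wedge_sub_mem _ _ _ (ker_le D.hS W) (g_sct D hW) p n _ ?_
  have hg : ∀ x, secRes S.X₃ h (secMap S.g V x) = secMap S.g W (secRes S.X₂ h x) := fun x => app_res S.g h x
  rw [← extS_map _ (secRes_smul S.X₃ h) _ (secRes_smul S.X₂ h) (secMap S.g V) (secMap S.g W) hg (n - p),
    map_g_sct, map_g_sct, phi_res (D.hφ'' (n - p)) hV.open' hW.open' h]

theorem exists_gamma : ∃ γ : CohB1.tensorMod (D.L' p) (D.L'' (n - p)) ⟶ Q D n (p + 1),
    ∀ (V : X.Opens) (hV : Good S V) (m : Sec (D.L' p) V) (y : Sec (D.L'' (n - p)) V),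
      γ.app V (tm m y) = secMap (prj D n (p + 1)) V ((D.φ n hV.open').symm
        (gammaPre D n p hV (D.φ' p hV.open' m ⊗ₜ D.φ'' (n - p) hV.open' y))) := by
  obtain ⟨γ, hγ⟩ := exists_bilHom (M := D.L' p) (N := D.L'' (n - p)) (P := Q D n (p + 1)) D.base
    (fun V hV => ((((TensorProduct.mk Γ(X, V) _ _).compr₂ (gammaPre D n p hV)).compl₁₂
      (D.φ' p hV.open').toLinearMap (D.φ'' (n - p) hV.open').toLinearMap).compr₂
        ((secMap (prj D n (p + 1)) V).comp (D.φ n hV.open').symm.toLinearMap)))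
    (fun W V hW hV h m y => (app_res (prj D n (p + 1)) h _).trans (gamma_res D n p hW hV h m y))
  exact ⟨γ, hγ⟩

/-- The inclusion of the graded piece. -/
def gamma : CohB1.tensorMod (D.L' p) (D.L'' (n - p)) ⟶ Q D n (p + 1) := (exists_gamma D n p).choose

theorem gamma_tm {V : X.Opens} (hV : Good S V) (m : Sec (D.L' p) V) (y : Sec (D.L'' (n - p)) V) :
    (gamma D n p).app V (tm m y) = secMap (prj D n (p + 1)) V ((D.φ n hV.open').symm
      (gammaPre D n p hV (D.φ' p hV.open' m ⊗ₜ D.φ'' (n - p) hV.open' y))) :=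
  (exists_gamma D n p).choose_spec V hV m y

theorem psi_succ_prj : psi D n (p + 1) ≫ prj D n p = 0 :=
  hom_ext_base D.base fun V hV m b => by
    show secMap (prj D n p) V ((psi D n (p + 1)).app V (tm m b)) = _
    rw [psi_tm D n (p + 1) hV]
    exact prj_eq_zero D n p hV (F_succ_le _ _ _ (wedge_mem _ _ _ _ _))

/-- The projection between successive quotients. -/
def delta : Q D n (p + 1) ⟶ Q D n p := cokernel.desc (psi D n (p + 1)) (prj D n p) (psi_succ_prj D n p)

theorem delta_prj {V : X.Opens} (x : Sec (D.L n) V) :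
    (delta D n p).app V (secMap (prj D n (p + 1)) V x) = secMap (prj D n p) V x :=
  congrArg (fun χ : D.L n ⟶ Q D n p => χ.app V x) (cokernel.π_desc _ _ _)

theorem gamma_delta : gamma D n p ≫ delta D n p = 0 :=
  hom_ext_base D.base fun V hV m y => by
    show (delta D n p).app V ((gamma D n p).app V (tm m y)) = _
    rw [gamma_tm D n p hV, delta_prj]
    exact prj_eq_zero D n p hV (LinearMap.range_comp_le_range _ _ (LinearMap.mem_range_self _ _))

/-- A tensor of exterior powers, as a section of the graded piece. -/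
theorem exists_grSec {V : X.Opens} (hV : Good S V) :
    ∃ Ψ : ↥(⋀[Γ(X, V)]^p (Sec S.X₁ V)) ⊗[Γ(X, V)] ↥(⋀[Γ(X, V)]^(n - p) (Sec S.X₃ V)) →+
        Γ(CohB1.tensorMod (D.L' p) (D.L'' (n - p)), V), Function.Surjective Ψ ∧
      ∀ t, (gamma D n p).app V (Ψ t) =
        secMap (prj D n (p + 1)) V ((D.φ n hV.open').symm (gammaPre D n p hV t)) := by
  let Ψ := (TMul.tt (D.L' p) (D.L'' (n - p)) V).comp
    (TensorProduct.map (D.φ' p hV.open').symm.toLinearMap (D.φ'' (n - p) hV.open').symm.toLinearMap).toAddMonoidHom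
  have htm : ∀ a b, Ψ (a ⊗ₜ b) = tm ((D.φ' p hV.open').symm a) ((D.φ'' (n - p) hV.open').symm b) :=
    fun a b => rfl
  refine ⟨Ψ, fun s => ?_, fun t => ?_⟩
  · refine tens_induction D p hV (fun s => ∃ t, Ψ t = s) ⟨0, map_zero Ψ⟩ ?_ (fun m y => ?_) s
    · rintro _ _ ⟨a, rfl⟩ ⟨b, rfl⟩
      exact ⟨a + b, map_add Ψ a b⟩
    · exact ⟨D.φ' p hV.open' m ⊗ₜ D.φ'' (n - p) hV.open' y, by
        rw [htm, LinearEquiv.symm_apply_apply, LinearEquiv.symm_apply_apply]⟩
  · induction t using TensorProduct.induction_on with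
    | zero => simp only [map_zero]
    | add a b ha hb => simp only [map_add, ha, hb]
    | tmul a b =>
      rw [htm, gamma_tm D n p hV, LinearEquiv.apply_symm_apply, LinearEquiv.apply_symm_apply]

theorem shortExact_gr (hp : p ≤ n) :
    (ShortComplex.mk (gamma D n p) (delta D n p) (gamma_delta D n p)).ShortExact := by
  refine shortExact_of_base D.base _ (fun V hV => ?_) (fun V hV z => ?_) (fun V hV z hz => ?_)
  · obtain ⟨Ψ, hΨs, hΨ⟩ := exists_grSec D n p hV
    haveI := hV.free₁.1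
    haveI := hV.free₁.2
    haveI := hV.free₃.1
    haveI := hV.free₃.2
    refine (injective_iff_map_eq_zero ((gamma D n p).app V).hom).2 fun s hs => ?_
    obtain ⟨t, rfl⟩ := hΨs s
    rw [hΨ, prj_eq_zero_iff D n (p + 1) hV, LinearEquiv.apply_symm_apply] at hs
    rw [lift_eq_zero _ _ _ (ker_le D.hS V) (g_sct D hV) (injective_f D.hS V) (comp_zero D.hS V) p n hp t hs,
      map_zero]
  · obtain ⟨x, hx⟩ := prj_surjective D n p hV z
    exact ⟨secMap (prj D n (p + 1)) V x, (delta_prj D n p x).trans hx⟩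
  · obtain ⟨x, rfl⟩ := prj_surjective D n (p + 1) hV z
    have hF : D.φ n hV.open' x ∈ F (secMap S.f V) p n :=
      (prj_eq_zero_iff D n p hV x).1 ((delta_prj D n p x).symm.trans hz)
    obtain ⟨t, ht⟩ := exists_lift _ _ _ (ker_le D.hS V) (g_sct D hV) p n hF
    obtain ⟨Ψ, -, hΨ⟩ := exists_grSec D n p hV
    refine ⟨Ψ t, (hΨ t).trans ?_⟩
    rw [eq_comm, ← sub_eq_zero]
    refine (map_sub (secMap (prj D n (p + 1)) V) _ _).symm.trans ((prj_eq_zero_iff D n (p + 1) hV _).2 ?_)
    rw [map_sub, LinearEquiv.apply_symm_apply]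
    exact ht

theorem isZero_Q_zero : IsZero (Q D n 0) := by
  rw [IsZero.iff_id_eq_zero, ← cancel_epi (prj D n 0), Category.comp_id, comp_zero']
  refine Scheme.Modules.hom_ext _ _ fun U => ?_
  ext x
  refine ext_base D.base fun V hVU hV => ?_
  rw [app_res, app_res]
  show secMap (prj D n 0) V (res (D.L n) hVU x) = _
  exact (prj_eq_zero_iff D n 0 hV _).2 (by rw [F_zero]; trivial)
where comp_zero' : prj D n 0 ≫ (0 : Q D n 0 ⟶ Q D n 0) = 0 := Limits.comp_zero

theorem psi_eq_zero : psi D n (n + 1) = 0 :=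
  hom_ext_base D.base fun V hV m b => by
    rw [psi_tm D n (n + 1) hV, wedge_of_lt _ (Nat.lt_succ_self n)]
    simp only [LinearMap.zero_apply, map_zero]
    rfl

theorem clSub_Q (k : ℕ) (hk : k ≤ n + 1) :
    FlatMod.IsFinLocFree (Q D n k) ∧
      KZero.clSub (fun M : X.Modules => FlatMod.IsFinLocFree M) (Q D n k) =
        ∑ i ∈ Finset.range k, KZero.clSub (fun M : X.Modules => FlatMod.IsFinLocFree M)
          (CohB1.tensorMod (D.L' i) (D.L'' (n - i))) := by
  induction k with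
  | zero =>
    have h := DQCoh.isFinLocFree_of_isZero (isZero_Q_zero D n)
    refine ⟨h, ?_⟩
    have hseq : (ShortComplex.mk (0 : Q D n 0 ⟶ Q D n 0) (0 : Q D n 0 ⟶ Q D n 0) zero_comp).ShortExact :=
      { exact := ShortComplex.exact_of_isZero_X₂ _ (isZero_Q_zero D n)
        mono_f := ⟨fun _ _ _ => (isZero_Q_zero D n).eq_of_tgt _ _⟩
        epi_g := ⟨fun _ _ _ => (isZero_Q_zero D n).eq_of_src _ _⟩ }
    have h' := K0Res.clSub_add (fun M : X.Modules => FlatMod.IsFinLocFree M) hseq h h h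
    rw [Finset.sum_range_zero]
    exact left_eq_add.1 h'
  | succ k ih =>
    obtain ⟨h, e⟩ := ih (by omega)
    have hT : FlatMod.IsFinLocFree (CohB1.tensorMod (D.L' k) (D.L'' (n - k))) :=
      DerPerf.isFinLocFree_tensor (D.hL' k) (D.hL'' (n - k))
    have hseq := shortExact_gr D n k (by omega)
    have hm := VBTwo.isFinLocFree_middle hseq hT h
    refine ⟨hm, ?_⟩
    rw [Finset.sum_range_succ, ← e]
    exact (K0Res.clSub_add (fun M : X.Modules => FlatMod.IsFinLocFree M) hseq hT hm h).trans (add_comm _ _)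

theorem clSub_main :
    KZero.clSub (fun M : X.Modules => FlatMod.IsFinLocFree M) (D.L n) =
      ∑ i ∈ Finset.range (n + 1), KZero.clSub (fun M : X.Modules => FlatMod.IsFinLocFree M)
        (CohB1.tensorMod (D.L' i) (D.L'' (n - i))) := by
  obtain ⟨h, e⟩ := clSub_Q D n (n + 1) le_rfl
  rw [← e]
  haveI : IsIso (prj D n (n + 1)) := cokernel.π_of_zero (psi_eq_zero D n)
  obtain ⟨h0, e0⟩ := clSub_Q D n 0 (Nat.zero_le _)
  have hz := isZero_Q_zero D n
  have hseq : (ShortComplex.mk (prj D n (n + 1)) (0 : Q D n (n + 1) ⟶ Q D n 0) Limits.comp_zero).ShortExact :=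
    { exact := (ShortComplex.exact_iff_epi _ rfl).2 inferInstance
      mono_f := inferInstance
      epi_g := ⟨fun _ _ _ => hz.eq_of_src _ _⟩ }
  have h' := K0Res.clSub_add (fun M : X.Modules => FlatMod.IsFinLocFree M) hseq (D.hL n) h h0
  rw [h', e0, Finset.sum_range_zero, add_zero]

end Groth.Agent.SGA6Ext
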