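import Groth.Agent.SGA6Ext.Exists
import Groth.Agent.SGA6Ext.Pull

/-!
Inverse images of exterior powers are exterior powers.
-/

set_option autoImplicit false
set_option backward.isDefEq.respectTransparency false
set_option backward.isDefEq.respectTransparency.types false
set_option linter.style.haveILetI false
set_option linter.unusedSectionVars false
set_option maxHeartbeats 1000000

universe u

open CategoryTheory CategoryTheory.Limits AlgebraicGeometry TopologicalSpace Opposite
open Groth.Agent.QC (res resO res_res res_self res_smul app_res resO_resO resO_self)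
open scoped TensorProduct

noncomputable section

namespace Groth.Agent.SGA6Ext

variable {X Y : Scheme.{u}}

section Fam

variable (E : X.Modules) (k : ℕ)

/-- An indexing of the k-element subsets. -/
def subIdx (n : ℕ) : Set.powersetCard (Fin n) k ≃ Fin (n.choose k) :=
  Fintype.equivFinOfCardEq (by rw [Fintype.card_eq_nat_card, Set.powersetCard.card, Nat.card_fin])

/-- The increasing subfamilies. -/
def subSel (n : ℕ) (i : Fin (n.choose k)) (j : Fin k) : Fin n :=
  Set.powersetCard.ofFinEmbEquiv.symm ((subIdx k n).symm i) j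

/-- The wedges of a family. -/
def wedgeFam {U : X.Opens} {n : ℕ} (e : Fin n → Γ(E, U)) (i : Fin (n.choose k)) :
    ↥(⋀[Γ(X, U)]^k (Sec E U)) :=
  exteriorPower.ιMulti Γ(X, U) k fun j => (e (subSel k n i j) : Sec E U)

theorem wedgeFam_frame {U : X.Opens} {n : ℕ} {e : Fin n → Γ(E, U)} (he : TMul.IsFrame e) :
    TMul.IsFrame (N := extSh E k) (U := U) fun i => (eta E k U (wedgeFam E k e i) : Γ(extSh E k, U)) := by
  classical
  refine W7Strat.isFrame_of_bijective fun V hV => ?_
  let b : Module.Basis (Fin n) Γ(X, V) (Sec E V) :=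
    Module.Basis.ofEquivFun (he.equiv hV).symm
  have hb : ∀ i, b i = secRes E hV (e i) := fun i => by
    simp only [b, Module.Basis.coe_ofEquivFun, LinearEquiv.symm_symm]
    change ∑ j, (Pi.single i (1 : Γ(X, V)) : Fin n → Γ(X, V)) j • res E hV (e j) = _
    rw [Finset.sum_eq_single i (fun j _ hj => by rw [Pi.single_eq_of_ne hj, zero_smul]) (fun h => by simp at h),
      Pi.single_eq_same, one_smul]
    rfl
  let B := (b.exteriorPower k).reindex (subIdx k n)
  have hB : ∀ i, B i = extRes E k hV (wedgeFam E k e i) := fun i => by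
    rw [Module.Basis.reindex_apply, exteriorPower.basis_apply, exteriorPower.ιMulti_family, wedgeFam,
      extRes_ιMulti]
    simp only [Function.comp_def, hb, subSel]
  have : (fun c : Fin (n.choose k) → Γ(X, V) => ∑ i, c i • res (extSh E k) hV (eta E k U (wedgeFam E k e i))) =
      (eta E k V) ∘ B.equivFun.symm := by
    funext c
    rw [Function.comp_apply, Module.Basis.equivFun_symm_apply, map_sum]
    refine Finset.sum_congr rfl fun i _ => ?_
    rw [map_smul, hB, ← eta_res]
    rfl
  rw [this]
  exact (eta_bijective_small E k he V hV).comp B.equivFun.symm.bijective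

end Fam

section Pull

variable (f : X ⟶ Y) (E : Y.Modules) (k : ℕ)

/-- The unit of adjunction on sections. -/
def pullSec (V : Y.Opens) : Sec E V →+ Sec ((Scheme.Modules.pullback f).obj E) (f ⁻¹ᵁ V) where
  toFun m := ((Scheme.Modules.pullbackPushforwardAdjunction f).unit.app E).app V m
  map_zero' := map_zero (((Scheme.Modules.pullbackPushforwardAdjunction f).unit.app E).app V).hom
  map_add' a b := map_add (((Scheme.Modules.pullbackPushforwardAdjunction f).unit.app E).app V).hom a b

theorem pullSec_smul (V : Y.Opens) (r : Γ(Y, V)) (m : Sec E V) :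
    pullSec f E V (r • m) = (f.app V).hom r • pullSec f E V m :=
  ((Scheme.Modules.pullbackPushforwardAdjunction f).unit.app E).app_smul r m

theorem pullSec_res {W V : Y.Opens} (h : W ≤ V) (m : Sec E V) :
    secRes ((Scheme.Modules.pullback f).obj E) (show f ⁻¹ᵁ W ≤ f ⁻¹ᵁ V from fun _ hx => h hx) (pullSec f E V m) =
      pullSec f E W (secRes E h m) :=
  app_res ((Scheme.Modules.pullbackPushforwardAdjunction f).unit.app E) h m

/-- The inverse image of wedges. -/
def pullWedge (V : Y.Opens) :
    ↥(⋀[Γ(Y, V)]^k (Sec E V)) →+ Sec (extSh ((Scheme.Modules.pullback f).obj E) k) (f ⁻¹ᵁ V) :=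
  (eta ((Scheme.Modules.pullback f).obj E) k (f ⁻¹ᵁ V)).toAddMonoidHom.comp
    (extS (f.app V).hom (pullSec f E V) (pullSec_smul f E V) k)

theorem pullWedge_smul (V : Y.Opens) (r : Γ(Y, V)) (z : ↥(⋀[Γ(Y, V)]^k (Sec E V))) :
    pullWedge f E k V (r • z) = (f.app V).hom r • pullWedge f E k V z := by
  simp only [pullWedge, AddMonoidHom.coe_comp, Function.comp_apply, extS_smul, LinearMap.toAddMonoidHom_coe, map_smul]

theorem pullWedge_ιMulti (V : Y.Opens) (e : Fin k → Sec E V) :
    pullWedge f E k V (exteriorPower.ιMulti _ k e) =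
      eta _ k (f ⁻¹ᵁ V) (exteriorPower.ιMulti _ k fun j => pullSec f E V (e j)) := by
  simp only [pullWedge, AddMonoidHom.coe_comp, Function.comp_apply, LinearMap.toAddMonoidHom_coe]
  rw [extS_ιMulti]

theorem pullWedge_res {W V : Y.Opens} (h : W ≤ V) (z : ↥(⋀[Γ(Y, V)]^k (Sec E V))) :
    secRes (extSh ((Scheme.Modules.pullback f).obj E) k) (show f ⁻¹ᵁ W ≤ f ⁻¹ᵁ V from fun _ hx => h hx)
      (pullWedge f E k V z) = pullWedge f E k W (extRes E k h z) := by
  refine DFunLike.congr_fun (semilinear_ext ((f.app W).hom.comp (resO Y h))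
    ((secRes (extSh ((Scheme.Modules.pullback f).obj E) k) (show f ⁻¹ᵁ W ≤ f ⁻¹ᵁ V from fun _ hx => h hx)).comp
      (pullWedge f E k V))
    ((pullWedge f E k W).comp (extRes E k h)) (fun r z => ?_) (fun r z => ?_) fun e => ?_) z
  · simp only [AddMonoidHom.coe_comp, Function.comp_apply, pullWedge_smul, secRes_smul]
    refine congrArg (· • _) ?_
    exact (congr($(f.naturality (homOfLE h).op) r)).symm
  · simp only [AddMonoidHom.coe_comp, Function.comp_apply, pullWedge_smul, extRes_smul, RingHom.coe_comp]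
  · simp only [AddMonoidHom.coe_comp, Function.comp_apply, pullWedge_ιMulti, extRes_ιMulti, eta_res]
    exact congrArg _ (congrArg _ (funext fun j => pullSec_res f E h (e j)))

variable {E}

theorem exists_pullExt (hE : FlatMod.IsFinLocFree E) :
    Nonempty ((Scheme.Modules.pullback f).obj (extSh E k) ≅ extSh ((Scheme.Modules.pullback f).obj E) k) := by
  let G : Y.Opens → Prop := fun V => ∃ (U : Y.Opens) (n : ℕ) (e : Fin n → Γ(E, U)), TMul.IsFrame e ∧ V ≤ U
  have hG : IsBase G := fun U x hx => by
    obtain ⟨U', n, e, hx', he⟩ := TMul.exists_isFrame hE x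
    exact ⟨U ⊓ U', ⟨U', n, e, he, inf_le_right⟩, ⟨hx, hx'⟩, inf_le_left⟩
  have hbij : ∀ V, G V → Function.Bijective (eta E k V) := fun V ⟨U, n, e, he, hle⟩ =>
    eta_bijective_small E k he V hle
  let E' := (Scheme.Modules.pullback f).obj E
  let β : ∀ V (hV : G V), Γ(extSh E k, V) →ₗ[Γ(Y, V)]
      Γ((Scheme.Modules.pushforward f).obj (extSh E' k), V) := fun V hV =>
    { toFun := fun m => pullWedge f E k V ((LinearEquiv.ofBijective _ (hbij V hV)).symm m)
      map_add' := fun a b => (congrArg _ (map_add (LinearEquiv.ofBijective _ (hbij V hV)).symm a b)).trans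
        (map_add (pullWedge f E k V) _ _)
      map_smul' := fun r a => (congrArg _ ((LinearEquiv.ofBijective _ (hbij V hV)).symm.map_smul r a)).trans
        (pullWedge_smul f E k V r _) }
  have hβ : ∀ V (hV : G V) z, β V hV (eta E k V z) = pullWedge f E k V z := fun V hV z =>
    congrArg (pullWedge f E k V) ((LinearEquiv.ofBijective _ (hbij V hV)).symm_apply_apply z)
  obtain ⟨χ, hχ⟩ := exists_linHom (M := extSh E k) (P := (Scheme.Modules.pushforward f).obj (extSh E' k)) hG β
    fun W V hW hV h m => by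
      obtain ⟨z, rfl⟩ := (hbij V hV).2 m
      rw [hβ V hV]
      refine (pullWedge_res f E k h z).trans ((hβ W hW _).symm.trans ?_)
      exact congrArg (β W hW) (eta_res E k h z).symm
  let adj := Scheme.Modules.pullbackPushforwardAdjunction f
  let ψ : (Scheme.Modules.pullback f).obj (extSh E k) ⟶ extSh E' k := (adj.homEquiv _ _).symm χ
  have hψ : adj.unit.app (extSh E k) ≫ (Scheme.Modules.pushforward f).map ψ = χ := by
    exact (adj.homEquiv_unit _ _ ψ).symm.trans ((adj.homEquiv _ _).apply_symm_apply χ)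
  let G' : X.Opens → Prop := fun W => ∃ (U : Y.Opens) (n : ℕ) (e : Fin n → Γ(E, U)), TMul.IsFrame e ∧ W ≤ f ⁻¹ᵁ U
  have hG' : IsBase G' := fun W x hx => by
    obtain ⟨U', n, e, hx', he⟩ := TMul.exists_isFrame hE (f.base x)
    exact ⟨W ⊓ f ⁻¹ᵁ U', ⟨U', n, e, he, inf_le_right⟩, ⟨hx, hx'⟩, inf_le_left⟩
  have hbij' : ∀ W, G' W → Function.Bijective (ψ.app W) := fun W ⟨U, n, e, he, hle⟩ => by
    let e' : Fin n → Γ(E', f ⁻¹ᵁ U) := fun i => (adj.unit.app E).app U (e i)
    have he' : TMul.IsFrame e' := he.pullback f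
    have hsrc := (wedgeFam_frame E k he).pullback f
    have htgt := wedgeFam_frame E' k he'
    have hU : G U := ⟨U, n, e, he, le_rfl⟩
    have hval : ∀ i, ψ.app (f ⁻¹ᵁ U) ((adj.unit.app (extSh E k)).app U (eta E k U (wedgeFam E k e i))) =
        eta E' k (f ⁻¹ᵁ U) (wedgeFam E' k e' i) := fun i =>
      (congrArg (fun κ : extSh E k ⟶ (Scheme.Modules.pushforward f).obj (extSh E' k) =>
          κ.app U (eta E k U (wedgeFam E k e i))) hψ).trans
        ((hχ U hU _).trans ((hβ U hU _).trans (pullWedge_ιMulti f E k U _)))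
    have hcomb : ∀ c : Fin (n.choose k) → Γ(X, W), ψ.app W (∑ i, c i • res _ hle
          ((adj.unit.app (extSh E k)).app U (eta E k U (wedgeFam E k e i)))) =
        ∑ i, c i • res (extSh E' k) hle (eta E' k (f ⁻¹ᵁ U) (wedgeFam E' k e' i)) := fun c => by
      rw [map_sum]
      refine Finset.sum_congr rfl fun i _ => ?_
      rw [Scheme.Modules.Hom.app_smul, ← app_res, hval]
    refine ⟨fun s t hst => ?_, fun t => ?_⟩
    · obtain ⟨a, rfl⟩ := hsrc.comb_surjective hle s
      obtain ⟨b, rfl⟩ := hsrc.comb_surjective hle t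
      have : a = b := htgt.comb_injective hle ((hcomb a).symm.trans (hst.trans (hcomb b)))
      rw [this]
    · obtain ⟨a, rfl⟩ := htgt.comb_surjective hle t
      exact ⟨_, hcomb a⟩
  haveI := mono_of_base hG' ψ fun W hW => (hbij' W hW).1
  haveI := epi_of_base hG' ψ fun W hW => (hbij' W hW).2
  haveI := isIso_of_mono_of_epi ψ
  exact ⟨asIso ψ⟩

variable {k}

/-- **Inverse images of exterior powers are exterior powers.** -/
theorem cls_pullback_extSh (hE : FlatMod.IsFinLocFree E) :
    pullK f (cls (extSh E k)) = cls (extSh ((Scheme.Modules.pullback f).obj E) k) := by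
  obtain ⟨i⟩ := exists_pullExt f k hE
  rw [pullK_cls f (isFinLocFree_extSh E k hE)]
  exact cls_iso i (isFinLocFree_pullback f (isFinLocFree_extSh E k hE))

end Pull

end Groth.Agent.SGA6Ext
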