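import Mathlib

/-!
The filtration of an exterior power of the middle term of a split exact sequence.
-/

set_option autoImplicit false
set_option linter.style.haveILetI false
set_option linter.unusedSectionVars false

universe u

open TensorProduct

noncomputable section

namespace Groth.Agent.SGA6Ext

variable {R : Type u} [CommRing R] {M' M M'' : Type u} [AddCommGroup M'] [Module R M']
  [AddCommGroup M] [Module R M] [AddCommGroup M''] [Module R M'']

variable (R M) in
/-- Degree one. -/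
abbrev N1 : Submodule R (ExteriorAlgebra R M) := LinearMap.range (ExteriorAlgebra.ι R)

/-- Degree one part coming from `M'`. -/
def N' (i : M' →ₗ[R] M) : Submodule R (ExteriorAlgebra R M) :=
  (N1 R M').map (ExteriorAlgebra.map i).toLinearMap

theorem coe_map {k : ℕ} (f : M' →ₗ[R] M) (z : ↥(⋀[R]^k M')) :
    (exteriorPower.map k f z : ExteriorAlgebra R M) = ExteriorAlgebra.map f (z : ExteriorAlgebra R M') := by
  have : (⋀[R]^k M).subtype ∘ₗ exteriorPower.map k f =
      (ExteriorAlgebra.map f).toLinearMap ∘ₗ (⋀[R]^k M').subtype := by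
    refine exteriorPower.linearMap_ext (AlternatingMap.ext fun m => ?_)
    simp only [LinearMap.compAlternatingMap_apply, LinearMap.comp_apply, Submodule.coe_subtype,
      exteriorPower.map_apply_ιMulti, exteriorPower.ιMulti_apply_coe, AlgHom.toLinearMap_apply,
      ExteriorAlgebra.map_apply_ιMulti]
  exact LinearMap.congr_fun this z

variable (i : M' →ₗ[R] M)

theorem N'_le : N' i ≤ N1 R M := by
  rintro _ ⟨_, ⟨m, rfl⟩, rfl⟩
  exact ⟨i m, (LinearMap.congr_fun (ExteriorAlgebra.map_comp_ι i) m).symm⟩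

theorem N1_mul_N'_le : N1 R M * N' i ≤ N' i * N1 R M := by
  rw [Submodule.mul_le]
  rintro _ ⟨x, rfl⟩ y hy
  obtain ⟨y', rfl⟩ := N'_le i hy
  have h : ExteriorAlgebra.ι R x * ExteriorAlgebra.ι R y' = -(ExteriorAlgebra.ι R y' * ExteriorAlgebra.ι R x) :=
    eq_neg_of_add_eq_zero_left (ExteriorAlgebra.ι_add_mul_swap x y')
  rw [h]
  exact neg_mem (Submodule.mul_mem_mul hy ⟨x, rfl⟩)

theorem map_mem_pow {p : ℕ} (a : ↥(⋀[R]^p M')) :
    ExteriorAlgebra.map i (a : ExteriorAlgebra R M') ∈ N' i ^ p := by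
  rw [N', ← Submodule.map_pow]
  exact ⟨a, a.2, rfl⟩

theorem exists_of_mem_pow {p : ℕ} {x : ExteriorAlgebra R M} (hx : x ∈ N' i ^ p) :
    ∃ a : ↥(⋀[R]^p M'), ExteriorAlgebra.map i (a : ExteriorAlgebra R M') = x := by
  rw [N', ← Submodule.map_pow] at hx
  obtain ⟨a, ha, rfl⟩ := hx
  exact ⟨⟨a, ha⟩, rfl⟩

theorem mem_top_degree {p q n : ℕ} (h : p + q = n) {x y : ExteriorAlgebra R M} (hx : x ∈ N' i ^ p)
    (hy : y ∈ N1 R M ^ q) : x * y ∈ ⋀[R]^n M := by
  rw [ExteriorAlgebra.exteriorPower, ← h, pow_add]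
  exact Submodule.mul_mem_mul (pow_le_pow_left' (N'_le i) p hx) hy

/-- The product `⋀^p M' × ⋀^(n-p) M → ⋀^n M` (zero for `p > n`). -/
def wedge (p n : ℕ) : ↥(⋀[R]^p M') →ₗ[R] ↥(⋀[R]^(n - p) M) →ₗ[R] ↥(⋀[R]^n M) :=
  if h : p ≤ n then
    LinearMap.mk₂ R (fun a b => ⟨ExteriorAlgebra.map i (a : ExteriorAlgebra R M') * (b : ExteriorAlgebra R M),
        mem_top_degree i (Nat.add_sub_cancel' h) (map_mem_pow i a) b.2⟩)
      (fun a a' b => Subtype.ext (by simp only [Submodule.coe_add, map_add, add_mul]))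
      (fun c a b => Subtype.ext (by simp only [Submodule.coe_smul, map_smul, smul_mul_assoc]))
      (fun a b b' => Subtype.ext (by simp only [Submodule.coe_add, mul_add]))
      (fun c a b => Subtype.ext (by simp only [Submodule.coe_smul, mul_smul_comm]))
  else 0

theorem coe_wedge {p n : ℕ} (h : p ≤ n) (a : ↥(⋀[R]^p M')) (b : ↥(⋀[R]^(n - p) M)) :
    (wedge i p n a b : ExteriorAlgebra R M) =
      ExteriorAlgebra.map i (a : ExteriorAlgebra R M') * (b : ExteriorAlgebra R M) := by
  rw [wedge, dif_pos h]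
  rfl

theorem wedge_of_lt {p n : ℕ} (h : n < p) : wedge i p n = 0 := by
  rw [wedge, dif_neg (not_le.2 h)]

/-- The filtration. -/
def F (p n : ℕ) : Submodule R ↥(⋀[R]^n M) := LinearMap.range (TensorProduct.lift (wedge i p n))

theorem wedge_mem (p n : ℕ) (a : ↥(⋀[R]^p M')) (b : ↥(⋀[R]^(n - p) M)) : wedge i p n a b ∈ F i p n :=
  ⟨a ⊗ₜ b, TensorProduct.lift.tmul a b⟩

theorem F_eq_bot {p n : ℕ} (h : n < p) : F i p n = ⊥ := by
  rw [F, wedge_of_lt i h, LinearMap.range_eq_bot]
  exact TensorProduct.ext' fun a b => by simp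

theorem mem_F {p n : ℕ} (h : p ≤ n) {z : ↥(⋀[R]^n M)}
    (hz : (z : ExteriorAlgebra R M) ∈ N' i ^ p * N1 R M ^ (n - p)) : z ∈ F i p n := by
  suffices key : ∀ x ∈ N' i ^ p * N1 R M ^ (n - p), ∃ w ∈ F i p n, (w : ExteriorAlgebra R M) = x by
    obtain ⟨w, hw, hwz⟩ := key _ hz
    exact Subtype.ext (p := fun x => x ∈ ⋀[R]^n M) hwz ▸ hw
  intro x hx
  induction hx using Submodule.mul_induction_on' with
  | mem_mul_mem a ha b hb =>
    obtain ⟨a', rfl⟩ := exists_of_mem_pow i ha
    exact ⟨_, wedge_mem i p n a' ⟨b, hb⟩, coe_wedge i h a' ⟨b, hb⟩⟩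
  | add a _ b _ ha hb =>
    obtain ⟨wa, hwa, rfl⟩ := ha
    obtain ⟨wb, hwb, rfl⟩ := hb
    exact ⟨wa + wb, add_mem hwa hwb, rfl⟩

theorem F_zero (n : ℕ) : F i 0 n = ⊤ := by
  refine eq_top_iff.2 fun z _ => mem_F i (Nat.zero_le n) ?_
  rw [pow_zero, one_mul, Nat.sub_zero]
  exact z.2

theorem F_succ_le (p n : ℕ) : F i (p + 1) n ≤ F i p n := by
  rcases Nat.lt_or_ge n (p + 1) with h | h
  · rw [F_eq_bot i h]; exact bot_le
  rintro _ ⟨t, rfl⟩
  induction t using TensorProduct.induction_on with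
  | zero => rw [map_zero]; exact zero_mem _
  | add a b ha hb => rw [map_add]; exact add_mem ha hb
  | tmul a b =>
    rw [TensorProduct.lift.tmul]
    refine mem_F i (by omega) ?_
    rw [coe_wedge i h]
    have hle : N' i ^ (p + 1) * N1 R M ^ (n - (p + 1)) ≤ N' i ^ p * N1 R M ^ (n - p) := by
      rw [pow_succ, mul_assoc]
      refine mul_le_mul' le_rfl ?_
      rw [show n - p = (n - (p + 1)) + 1 by omega, pow_succ']
      exact mul_le_mul' (N'_le i) le_rfl
    exact hle (Submodule.mul_mem_mul (map_mem_pow i a) b.2)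

variable (π : M →ₗ[R] M'') (s : M'' →ₗ[R] M)

/-- `z - ⋀(sπ) z` lies in the first step. -/
theorem sub_map_mem (hker : LinearMap.ker π ≤ LinearMap.range i) (hs : π ∘ₗ s = LinearMap.id) {q : ℕ}
    {z : ExteriorAlgebra R M} (hz : z ∈ N1 R M ^ q) :
    (q = 0 → z - ExteriorAlgebra.map (s ∘ₗ π) z = 0) ∧
      ∀ k, q = k + 1 → z - ExteriorAlgebra.map (s ∘ₗ π) z ∈ N' i * N1 R M ^ k := by
  induction hz using Submodule.pow_induction_on_left' with
  | algebraMap r => exact ⟨fun _ => by rw [AlgHom.commutes, sub_self], fun k hk => absurd hk k.succ_ne_zero.symm⟩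
  | add x y q hx hy ihx ihy =>
    refine ⟨fun h => ?_, fun k hk => ?_⟩
    · rw [map_add, add_sub_add_comm, ihx.1 h, ihy.1 h, add_zero]
    · rw [map_add, add_sub_add_comm]
      exact add_mem (ihx.2 k hk) (ihy.2 k hk)
  | mem_mul m hm q x hx ih =>
    refine ⟨fun h => absurd h q.succ_ne_zero, fun k hk => ?_⟩
    obtain rfl : q = k := by omega
    obtain ⟨v, rfl⟩ := hm
    set h := ExteriorAlgebra.map (s ∘ₗ π) with hh
    have hv : h (ExteriorAlgebra.ι R v) = ExteriorAlgebra.ι R (s (π v)) :=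
      LinearMap.congr_fun (ExteriorAlgebra.map_comp_ι (s ∘ₗ π)) v
    have e : ExteriorAlgebra.ι R v * x - h (ExteriorAlgebra.ι R v * x) =
        (ExteriorAlgebra.ι R v - ExteriorAlgebra.ι R (s (π v))) * x +
          ExteriorAlgebra.ι R (s (π v)) * (x - h x) := by
      rw [map_mul, hv, sub_mul, mul_sub]
      abel
    rw [e]
    refine add_mem (Submodule.mul_mem_mul ?_ hx) ?_
    · obtain ⟨a, ha⟩ := hker (show v - s (π v) ∈ LinearMap.ker π by
        rw [LinearMap.mem_ker, map_sub, ← LinearMap.comp_apply π s, hs, LinearMap.id_apply, sub_self])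
      rw [← map_sub, ← ha]
      exact ⟨ExteriorAlgebra.ι R a, ⟨a, rfl⟩, LinearMap.congr_fun (ExteriorAlgebra.map_comp_ι i) a⟩
    · cases q with
      | zero => rw [ih.1 rfl, mul_zero]; exact zero_mem _
      | succ l =>
        have hle : N1 R M * (N' i * N1 R M ^ l) ≤ N' i * N1 R M ^ (l + 1) := by
          rw [← mul_assoc, pow_succ', ← mul_assoc]
          exact mul_le_mul' (N1_mul_N'_le i) le_rfl
        exact hle (Submodule.mul_mem_mul (LinearMap.mem_range_self _ _) (ih.2 l rfl))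

variable (hker : LinearMap.ker π ≤ LinearMap.range i) (hs : π ∘ₗ s = LinearMap.id)
include hker hs

/-- The product only depends on the image of the second factor, up to the next step. -/
theorem wedge_sub_mem (p n : ℕ) (a : ↥(⋀[R]^p M')) {z z' : ↥(⋀[R]^(n - p) M)}
    (hz : exteriorPower.map (n - p) π z = exteriorPower.map (n - p) π z') :
    wedge i p n a z - wedge i p n a z' ∈ F i (p + 1) n := by
  rcases Nat.lt_or_ge n p with h | h
  · simp [wedge_of_lt i h]
  rw [← map_sub]
  obtain ⟨d, hd, hd0⟩ : ∃ d, d = z - z' ∧ ExteriorAlgebra.map (s ∘ₗ π) (d : ExteriorAlgebra R M) = 0 := by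
    refine ⟨z - z', rfl, ?_⟩
    rw [← coe_map, exteriorPower.map_comp, LinearMap.comp_apply, map_sub, hz, sub_self, map_zero]
    rfl
  rw [← hd]
  have h1 := sub_map_mem i π s hker hs d.2
  rw [hd0, sub_zero] at h1
  rcases Nat.eq_zero_or_pos (n - p) with hq | hq
  · rw [show d = 0 from Subtype.ext (h1.1 hq), map_zero]
    exact zero_mem _
  refine mem_F i (by omega) ?_
  rw [coe_wedge i h, pow_succ, mul_assoc]
  exact Submodule.mul_mem_mul (map_mem_pow i a) (h1.2 _ (by omega))

/-- Every element of a step comes from `⋀^p M' ⊗ ⋀^(n-p) M''` up to the next step. -/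
theorem exists_lift (p n : ℕ) {z : ↥(⋀[R]^n M)} (hz : z ∈ F i p n) :
    ∃ t : ↥(⋀[R]^p M') ⊗[R] ↥(⋀[R]^(n - p) M''),
      z - TensorProduct.lift (wedge i p n) (LinearMap.lTensor _ (exteriorPower.map (n - p) s) t) ∈
        F i (p + 1) n := by
  obtain ⟨t, rfl⟩ := hz
  induction t using TensorProduct.induction_on with
  | zero => exact ⟨0, by simp⟩
  | add a b ha hb =>
    obtain ⟨ta, hta⟩ := ha
    obtain ⟨tb, htb⟩ := hb
    refine ⟨ta + tb, ?_⟩
    rw [map_add, map_add, map_add, add_sub_add_comm]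
    exact add_mem hta htb
  | tmul a b =>
    refine ⟨a ⊗ₜ exteriorPower.map (n - p) π b, ?_⟩
    rw [LinearMap.lTensor_tmul, TensorProduct.lift.tmul, TensorProduct.lift.tmul]
    refine wedge_sub_mem i π s hker hs p n a ?_
    rw [← LinearMap.comp_apply (f := exteriorPower.map (n - p) π) (g := exteriorPower.map (n - p) s),
      ← exteriorPower.map_comp, hs, exteriorPower.map_id, LinearMap.id_apply]

/-- The pieces are independent. -/
theorem lift_eq_zero [Module.Free R M'] [Module.Finite R M'] [Module.Free R M''] [Module.Finite R M'']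
    (hi : Function.Injective i) (hπi : π ∘ₗ i = 0) (p n : ℕ) (hp : p ≤ n)
    (t : ↥(⋀[R]^p M') ⊗[R] ↥(⋀[R]^(n - p) M''))
    (ht : TensorProduct.lift (wedge i p n) (LinearMap.lTensor _ (exteriorPower.map (n - p) s) t) ∈
      F i (p + 1) n) : t = 0 := by
  classical
  rcases subsingleton_or_nontrivial R with hR | hR
  · exact (Module.subsingleton R _).elim _ _
  let f : ∀ q : Fin (n + 1), (↥(⋀[R]^(q : ℕ) M') ⊗[R] ↥(⋀[R]^(n - q) M'')) →ₗ[R] ↥(⋀[R]^n M) := fun q =>
    (TensorProduct.lift (wedge i q n)).comp (LinearMap.lTensor _ (exteriorPower.map (n - q) s))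
  let Φ := LinearMap.lsum R (fun q : Fin (n + 1) => ↥(⋀[R]^(q : ℕ) M') ⊗[R] ↥(⋀[R]^(n - q) M'')) R f
  have hΦs : ∀ q x, Φ (Pi.single q x) = f q x := fun q x => by
    simp only [Φ, LinearMap.lsum_apply, LinearMap.coe_sum, Finset.sum_apply, LinearMap.comp_apply,
      LinearMap.proj_apply]
    rw [Fintype.sum_eq_single q fun r hr => by rw [Pi.single_eq_of_ne hr, map_zero], Pi.single_eq_same]
  have key : ∀ k q, n + 1 = q + k → ∀ z ∈ F i q n, ∃ x, (∀ r : Fin (n + 1), (r : ℕ) < q → x r = 0) ∧ Φ x = z := by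
    intro k
    induction k with
    | zero =>
      intro q hq z hz
      rw [F_eq_bot i (by omega), Submodule.mem_bot] at hz
      exact ⟨0, fun _ _ => rfl, by rw [map_zero, hz]⟩
    | succ k ih =>
      intro q hq z hz
      obtain ⟨t', ht'⟩ := exists_lift i π s hker hs q n hz
      obtain ⟨x, hx0, hx⟩ := ih (q + 1) (by omega) _ ht'
      let q' : Fin (n + 1) := ⟨q, by omega⟩
      refine ⟨x + Pi.single q' t', fun r hr => ?_, ?_⟩
      · rw [Pi.add_apply, hx0 r (by omega), zero_add, Pi.single_eq_of_ne]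
        exact fun h => by rw [h] at hr; exact lt_irrefl _ hr
      · rw [map_add, hx, hΦs]
        exact sub_add_cancel _ _
  have hsurj : Function.Surjective Φ := fun z => by
    obtain ⟨x, -, hx⟩ := key (n + 1) 0 (by omega) z (by rw [F_zero]; trivial)
    exact ⟨x, hx⟩
  have hbij : Function.Bijective (i.coprod s) := by
    refine ⟨fun x y hxy => ?_, fun m => ?_⟩
    · simp only [LinearMap.coprod_apply] at hxy
      have h2 : x.2 = y.2 := by
        simpa [map_add, ← LinearMap.comp_apply π i, ← LinearMap.comp_apply π s, hπi, hs] using congrArg π hxy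
      rw [h2] at hxy
      exact Prod.ext (hi (add_right_cancel hxy)) h2
    · obtain ⟨a, ha⟩ := hker (show m - s (π m) ∈ LinearMap.ker π by
        rw [LinearMap.mem_ker, map_sub, ← LinearMap.comp_apply π s, hs, LinearMap.id_apply, sub_self])
      exact ⟨(a, π m), by rw [LinearMap.coprod_apply, ha, sub_add_cancel]⟩
  let eM := LinearEquiv.ofBijective _ hbij
  haveI : Module.Free R M := Module.Free.of_equiv eM
  haveI : Module.Finite R M := Module.Finite.equiv eM
  have hrk : Module.finrank R M = Module.finrank R M' + Module.finrank R M'' := by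
    rw [← eM.finrank_eq, Module.finrank_prod]
  have hcount : Module.finrank R (∀ q : Fin (n + 1), ↥(⋀[R]^(q : ℕ) M') ⊗[R] ↥(⋀[R]^(n - q) M'')) =
      Module.finrank R ↥(⋀[R]^n M) := by
    rw [Module.finrank_pi_fintype, exteriorPower.finrank_eq, hrk, Nat.add_choose_eq,
      Finset.Nat.sum_antidiagonal_eq_sum_range_succ_mk, Finset.sum_range]
    refine Finset.sum_congr rfl fun q _ => ?_
    rw [Module.finrank_tensorProduct, exteriorPower.finrank_eq, exteriorPower.finrank_eq]
  obtain ⟨e⟩ := FiniteDimensional.nonempty_linearEquiv_of_finrank_eq hcount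
  have hinj : Function.Injective Φ := by
    have h1 : Function.Injective (e.symm.toLinearMap.comp Φ) :=
      OrzechProperty.injective_of_surjective_endomorphism _ (e.symm.surjective.comp hsurj)
    exact fun a b h => h1 (congrArg e.symm h)
  obtain ⟨x, hx0, hx⟩ := key (n - p) (p + 1) (by omega) _ ht
  let p' : Fin (n + 1) := ⟨p, by omega⟩
  have := congrFun (hinj (hx.trans (hΦs p' t).symm)) p'
  rw [Pi.single_eq_same, hx0 p' (Nat.lt_succ_self p)] at this
  exact this.symm

end Groth.Agent.SGA6Ext
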