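import Groth.Agent.SGA6Ext.Alg

/-!
Exterior powers of semilinear maps.
-/

set_option autoImplicit false
set_option linter.style.haveILetI false

universe u

noncomputable section

namespace Groth.Agent.SGA6Ext

variable {R S : Type u} [CommRing R] [CommRing S] {σ : R →+* S}
  {M N : Type u} [AddCommGroup M] [Module R M] [AddCommGroup N] [Module S N]

/-- Functoriality of exterior algebras in semilinear maps. -/
def extHom (σ : R →+* S) (f : M →+ N) (hf : ∀ (r : R) (m : M), f (r • m) = σ r • f m) :
    ExteriorAlgebra R M →+* ExteriorAlgebra S N :=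
  letI : Algebra R (ExteriorAlgebra S N) :=
    ((algebraMap S (ExteriorAlgebra S N)).comp σ).toAlgebra' fun r x => Algebra.commutes (σ r) x
  (ExteriorAlgebra.lift R
    ⟨{ toFun := fun m => ExteriorAlgebra.ι S (f m)
       map_add' := fun a b => by rw [map_add, map_add]
       map_smul' := fun r m => by
        rw [hf, map_smul, Algebra.smul_def, RingHom.id_apply, Algebra.smul_def]
        rfl },
      fun m => ExteriorAlgebra.ι_sq_zero (f m)⟩).toRingHom

variable (f : M →+ N) (hf : ∀ (r : R) (m : M), f (r • m) = σ r • f m)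

theorem extHom_ι (m : M) : extHom σ f hf (ExteriorAlgebra.ι R m) = ExteriorAlgebra.ι S (f m) :=
  letI : Algebra R (ExteriorAlgebra S N) :=
    ((algebraMap S (ExteriorAlgebra S N)).comp σ).toAlgebra' fun r x => Algebra.commutes (σ r) x
  ExteriorAlgebra.lift_ι_apply R _ _ m

theorem extHom_algebraMap (r : R) :
    extHom σ f hf (algebraMap R (ExteriorAlgebra R M) r) = algebraMap S (ExteriorAlgebra S N) (σ r) :=
  letI : Algebra R (ExteriorAlgebra S N) :=
    ((algebraMap S (ExteriorAlgebra S N)).comp σ).toAlgebra' fun r x => Algebra.commutes (σ r) x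
  AlgHom.commutes (ExteriorAlgebra.lift R _) r

theorem extHom_smul (r : R) (x : ExteriorAlgebra R M) :
    extHom σ f hf (r • x) = σ r • extHom σ f hf x := by
  rw [Algebra.smul_def, map_mul, extHom_algebraMap, ← Algebra.smul_def]

theorem extHom_mem {k : ℕ} {x : ExteriorAlgebra R M} (hx : x ∈ ⋀[R]^k M) : extHom σ f hf x ∈ ⋀[S]^k N := by
  induction hx using Submodule.pow_induction_on_left' with
  | algebraMap r =>
    rw [extHom_algebraMap, ExteriorAlgebra.exteriorPower, pow_zero]
    exact Submodule.one_le.1 le_rfl |> fun h => by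
      rw [Algebra.algebraMap_eq_smul_one]
      exact Submodule.smul_mem _ _ h
  | add a b k _ _ ha hb => rw [map_add]; exact add_mem ha hb
  | mem_mul m hm k a _ ha =>
    obtain ⟨v, rfl⟩ := hm
    rw [map_mul, extHom_ι, ExteriorAlgebra.exteriorPower, pow_succ']
    exact Submodule.mul_mem_mul (LinearMap.mem_range_self _ _) ha

/-- Exterior power of a semilinear map. -/
def extS (σ : R →+* S) (f : M →+ N) (hf : ∀ (r : R) (m : M), f (r • m) = σ r • f m) (k : ℕ) :
    ↥(⋀[R]^k M) →+ ↥(⋀[S]^k N) where
  toFun z := ⟨extHom σ f hf z, extHom_mem f hf z.2⟩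
  map_zero' := Subtype.ext (map_zero _)
  map_add' a b := Subtype.ext (map_add (extHom σ f hf) _ _)

theorem coe_extS (k : ℕ) (z : ↥(⋀[R]^k M)) :
    (extS σ f hf k z : ExteriorAlgebra S N) = extHom σ f hf z := rfl

theorem extS_smul (k : ℕ) (r : R) (z : ↥(⋀[R]^k M)) : extS σ f hf k (r • z) = σ r • extS σ f hf k z :=
  Subtype.ext (extHom_smul f hf r z)

theorem extS_ιMulti (k : ℕ) (e : Fin k → M) :
    extS σ f hf k (exteriorPower.ιMulti R k e) = exteriorPower.ιMulti S k (fun j => f (e j)) := by
  refine Subtype.ext ?_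
  rw [coe_extS, exteriorPower.ιMulti_apply_coe, exteriorPower.ιMulti_apply_coe, ExteriorAlgebra.ιMulti_apply,
    ExteriorAlgebra.ιMulti_apply, map_list_prod, List.map_ofFn]
  congr 2
  funext j
  exact extHom_ι f hf (e j)

variable {M' : Type u} [AddCommGroup M'] [Module R M'] {N' : Type u} [AddCommGroup N'] [Module S N']
  (f' : M' →+ N') (hf' : ∀ (r : R) (m : M'), f' (r • m) = σ r • f' m)
  (i : M' →ₗ[R] M) (j : N' →ₗ[S] N) (hij : ∀ m, f (i m) = j (f' m))

include hij

theorem extHom_map (x : ExteriorAlgebra R M') :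
    extHom σ f hf (ExteriorAlgebra.map i x) = ExteriorAlgebra.map j (extHom σ f' hf' x) := by
  induction x using ExteriorAlgebra.induction with
  | algebraMap r => rw [AlgHom.commutes, extHom_algebraMap, extHom_algebraMap, AlgHom.commutes]
  | ι m =>
    rw [show ExteriorAlgebra.map i (ExteriorAlgebra.ι R m) = ExteriorAlgebra.ι R (i m) from
        LinearMap.congr_fun (ExteriorAlgebra.map_comp_ι i) m, extHom_ι, extHom_ι,
      show ExteriorAlgebra.map j (ExteriorAlgebra.ι S (f' m)) = ExteriorAlgebra.ι S (j (f' m)) from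
        LinearMap.congr_fun (ExteriorAlgebra.map_comp_ι j) _, hij]
  | mul a b ha hb => simp only [map_mul, ha, hb]
  | add a b ha hb => simp only [map_add, ha, hb]

theorem extS_map (k : ℕ) (z : ↥(⋀[R]^k M')) :
    extS σ f hf k (exteriorPower.map k i z) = exteriorPower.map k j (extS σ f' hf' k z) :=
  Subtype.ext (by rw [coe_extS, coe_map, coe_map, coe_extS, extHom_map f hf f' hf' i j hij])

theorem extS_wedge {p n : ℕ} (h : p ≤ n) (a : ↥(⋀[R]^p M')) (b : ↥(⋀[R]^(n - p) M)) :
    extS σ f hf n (wedge i p n a b) = wedge j p n (extS σ f' hf' p a) (extS σ f hf (n - p) b) :=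
  Subtype.ext (by
    rw [coe_extS, coe_wedge i h, coe_wedge j h, map_mul, extHom_map f hf f' hf' i j hij]
    rfl)

end Groth.Agent.SGA6Ext
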